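import Cfsg.Agent.Components.ZJFail.Pair
import Cfsg.Agent.Quadratic.BaerSuzuki

/-!
Selection of the quadratic pair: a maximal normalizer argument.
-/

set_option autoImplicit false
set_option linter.unusedSectionVars false

namespace Cfsg.Lib.ZJFail

open Matrix

variable {p : ℕ} [Fact p.Prime] {n : ℕ} {Q : Type*} [Group Q] [Finite Q]

theorem mem_normalizer_of_le {D : Subgroup Q} {g : Q}
    (h : D.map (MulAut.conj g).toMonoidHom ≤ D) : g ∈ Subgroup.normalizer (D : Set Q) :=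
  Cfsg.Lib.Transfer.map_conj_eq_self_iff.mp
    (Subgroup.eq_of_le_of_card_ge h (Cfsg.Lib.Transfer.card_map_conj D g).ge)

theorem normalizer_condition {T M : Subgroup Q} (hT : IsPGroup p T) (hM : M < T) :
    ∃ x ∈ T, x ∈ Subgroup.normalizer (M : Set Q) ∧ x ∉ M := by
  haveI := hT.isNilpotent
  have hlt : M.subgroupOf T < ⊤ := by
    rw [lt_top_iff_ne_top, ne_eq, Subgroup.subgroupOf_eq_top]
    exact hM.not_ge
  obtain ⟨x, hx, hx'⟩ := SetLike.exists_of_lt (Group.normalizerCondition_of_isNilpotent _ hlt)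
  refine ⟨x, x.2, mem_normalizer_of_le ?_, fun h => hx' h⟩
  rintro _ ⟨y, hy, rfl⟩
  exact (Subgroup.mem_normalizer_iff.mp hx ⟨y, hM.le hy⟩).mp hy

/-- the subgroup generated by the quadratic elements of `D` -/
def qcl (ρ : Q →* Matrix (Fin n) (Fin n) (ZMod p)) (D : Subgroup Q) : Subgroup Q :=
  Subgroup.closure {g | g ∈ D ∧ Quad ρ g}

variable {ρ : Q →* Matrix (Fin n) (Fin n) (ZMod p)}

theorem qcl_le (D : Subgroup Q) : qcl ρ D ≤ D := (Subgroup.closure_le _).mpr fun _ h => h.1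

theorem qcl_mono {D E : Subgroup Q} (h : D ≤ E) : qcl ρ D ≤ qcl ρ E :=
  Subgroup.closure_mono fun _ hg => ⟨h hg.1, hg.2⟩

theorem qcl_qcl (D : Subgroup Q) : qcl ρ (qcl ρ D) = qcl ρ D :=
  le_antisymm (qcl_le _) (Subgroup.closure_mono fun _ hg => ⟨Subgroup.subset_closure hg, hg.2⟩)

theorem mem_qcl {D : Subgroup Q} {g : Q} (h : g ∈ D) (hg : Quad ρ g) : g ∈ qcl ρ D :=
  Subgroup.subset_closure ⟨h, hg⟩

theorem qcl_bot : qcl ρ (⊥ : Subgroup Q) = ⊥ := le_bot_iff.mp (qcl_le _)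

theorem qcl_map (D : Subgroup Q) (x : Q) :
    qcl ρ (D.map (MulAut.conj x).toMonoidHom) = (qcl ρ D).map (MulAut.conj x).toMonoidHom := by
  rw [qcl, qcl, MonoidHom.map_closure]
  congr 1
  ext g
  constructor
  · rintro ⟨⟨y, hy, rfl⟩, hq⟩
    refine ⟨y, ⟨hy, ?_⟩, rfl⟩
    have := hq.conj x⁻¹
    simpa [mul_assoc] using this
  · rintro ⟨y, ⟨hy, hq⟩, rfl⟩
    exact ⟨⟨y, hy, rfl⟩, hq.conj x⟩

theorem normalizer_le_normalizer_qcl (D : Subgroup Q) :
    Subgroup.normalizer (D : Set Q) ≤ Subgroup.normalizer ((qcl ρ D : Subgroup Q) : Set Q) := by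
  intro x hx
  refine Cfsg.Lib.Transfer.map_conj_eq_self_iff.mp ?_
  rw [← qcl_map, Cfsg.Lib.Transfer.map_conj_eq_self_iff.mpr hx]

theorem exists_quad_normalizing {T D : Subgroup Q} (hT : IsPGroup p T) (hDT : D ≤ T)
    (hD : D = qcl ρ D) (hne : D ≠ qcl ρ T) :
    ∃ a ∈ T, Quad ρ a ∧ a ∈ Subgroup.normalizer (D : Set Q) ∧ a ∉ D := by
  by_contra h
  push Not at h
  set N := T ⊓ Subgroup.normalizer (D : Set Q)
  have hsub : qcl ρ N ≤ D := (Subgroup.closure_le _).mpr fun g hg => h g hg.1.1 hg.2 hg.1.2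
  have hNT : N < T := by
    refine lt_of_le_of_ne inf_le_left fun e => hne (le_antisymm ?_ ?_)
    · rw [hD]; exact qcl_mono hDT
    · rw [← e]; exact hsub
  obtain ⟨x, hxT, hxN, hx⟩ := normalizer_condition hT hNT
  refine hx ⟨hxT, mem_normalizer_of_le ?_⟩
  conv_lhs => rw [hD]
  rw [← qcl_map]
  refine le_trans (qcl_mono ?_) hsub
  calc D.map (MulAut.conj x).toMonoidHom ≤ N.map (MulAut.conj x).toMonoidHom :=
        Subgroup.map_mono (le_inf hDT Subgroup.le_normalizer)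
    _ = N := Cfsg.Lib.Transfer.map_conj_eq_self_iff.mpr hxN

/-- conjugating a `p`-subgroup into a Sylow subgroup of an overgroup -/
theorem exists_conj_into (T : Sylow p Q) {L W : Subgroup Q} (hTL : (T : Subgroup Q) ≤ L)
    (hW : IsPGroup p W) (hWL : W ≤ L) :
    ∃ r ∈ L, W.map (MulAut.conj r).toMonoidHom ≤ (T : Subgroup Q) := by
  obtain ⟨T', hT'⟩ := (hW.comap_subtype (K := L) : IsPGroup p (W.subgroupOf L)).exists_le_sylow
  obtain ⟨r, hr⟩ := MulAction.exists_smul_eq L T' (T.subtype hTL)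
  refine ⟨r, r.2, ?_⟩
  rintro _ ⟨w, hw, rfl⟩
  have h : r * ⟨w, hWL hw⟩ * r⁻¹ ∈ (T.subtype hTL : Subgroup L) := by
    rw [← hr, Cfsg.Lib.Transfer.sylow_smul_coe]
    exact ⟨_, hT' hw, rfl⟩
  exact h

/-- **the torus data** -/
theorem torus_data (hp : p ≠ 2) (hρ : Function.Injective ρ) (T : Sylow p Q) (R : Subgroup Q)
    (v : Fin n → ZMod p) (hTv : ∀ g ∈ (T : Subgroup Q), ρ g *ᵥ v = v)
    (hspan : ∀ U : AddSubgroup (Fin n → ZMod p), v ∈ U → (∀ g : Q, ∀ x ∈ U, ρ g *ᵥ x ∈ U) → U = ⊤)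
    (hTR : (T : Subgroup Q) ≤ R) (hfix : ∀ g : Q, ρ g *ᵥ v = v → g ∈ R)
    (hN : Subgroup.normalizer ((qcl ρ (T : Subgroup Q) : Subgroup Q) : Set Q) ≤ R)
    (ha : ∃ a ∈ (T : Subgroup Q), Quad ρ a)
    (E : AddSubgroup (Fin n → ZMod p)) (hE : ∀ g ∈ R, ∀ x ∈ E, ρ g *ᵥ x ∈ E) (hv : v ∈ E) :
    PairData ρ R E := by
  classical
  by_cases hR : R = ⊤
  · -- everything agrees
    have hEt : E = ⊤ := hspan E hv fun g x hx => hE g (hR ▸ Subgroup.mem_top g) x hx
    obtain ⟨a, haT, hqa⟩ := ha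
    obtain ⟨g, hg⟩ : ∃ g : Q, ¬ IsPGroup p ↥(Subgroup.zpowers a ⊔
        (Subgroup.zpowers a).map (MulAut.conj g).toMonoidHom) := by
      by_contra h
      push Not at h
      obtain ⟨N, hNn, hNp, haN⟩ := Cfsg.Lib.BaerSuzuki.baer_suzuki _ h
      haveI := hNn
      have hNT : N ≤ (T : Subgroup Q) := by
        obtain ⟨T', hT'⟩ := hNp.exists_le_sylow
        obtain ⟨g, hg⟩ := MulAction.exists_smul_eq Q T' T
        intro x hx
        rw [← hg, Cfsg.Lib.Transfer.sylow_smul_coe]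
        exact ⟨g⁻¹ * x * g, hT' (by simpa using hNn.conj_mem x hx g⁻¹), by simp [mul_assoc]⟩
      let U : AddSubgroup (Fin n → ZMod p) :=
        { carrier := {x | ∀ m ∈ N, ρ m *ᵥ x = x}
          zero_mem' := fun m _ => mulVec_zero _
          add_mem' := fun {x y} hx hy m hm => by rw [mulVec_add, hx m hm, hy m hm]
          neg_mem' := fun {x} hx m hm => by rw [mulVec_neg, hx m hm] }
      have hU : U = ⊤ := hspan U (fun m hm => hTv m (hNT hm)) fun g x hx m hm => by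
        have h1 := hx (g⁻¹ * m * g) (by simpa using hNn.conj_mem m hm g⁻¹)
        have h2 := congrArg (ρ g *ᵥ ·) h1
        simp only [mulVec_mulVec, ← map_mul] at h2
        rw [mulVec_mulVec, ← map_mul]
        rwa [show g * (g⁻¹ * m * g) = m * g by group] at h2
      refine hqa.1 (hρ (Matrix.ext_of_mulVec_single fun i => ?_))
      rw [map_one, one_mulVec]
      exact (show Pi.single i 1 ∈ U from hU ▸ AddSubgroup.mem_top _) a (haN (Subgroup.mem_zpowers a))
    set b := g * a * g⁻¹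
    have hqb : Quad ρ b := hqa.conj g
    have hXe : Subgroup.zpowers a ⊔ (Subgroup.zpowers a).map (MulAut.conj g).toMonoidHom =
        Subgroup.closure ({a, b} : Set Q) := by
      rw [MonoidHom.map_zpowers, Subgroup.zpowers_eq_closure, Subgroup.zpowers_eq_closure, ← Subgroup.closure_union,
        Set.singleton_union]
      rfl
    rw [hXe] at hg
    set a' : ↥(Subgroup.closure ({a, b} : Set Q)) := ⟨a, Subgroup.subset_closure (Set.mem_insert _ _)⟩
    obtain ⟨P, hP⟩ : ∃ P : Sylow p ↥(Subgroup.closure ({a, b} : Set Q)),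
        a' ∈ (P : Subgroup ↥(Subgroup.closure ({a, b} : Set Q))) := by
      have h1 : a' ^ p ^ 1 = 1 := Subtype.ext (by
        rw [SubgroupClass.coe_pow, pow_one, OneMemClass.coe_one]; exact hqa.pow_eq_one hρ)
      obtain ⟨i, -, hi⟩ := (Nat.dvd_prime_pow (Fact.out : p.Prime)).mp (orderOf_dvd_of_pow_eq_one h1)
      have hz : IsPGroup p (Subgroup.zpowers a') := IsPGroup.of_card (n := i) (by rw [Nat.card_zpowers, hi])
      obtain ⟨P, hP⟩ := hz.exists_le_sylow
      exact ⟨P, hP (Subgroup.mem_zpowers a')⟩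
    -- a vector fixed by the Sylow subgroup and moved by `b`
    obtain ⟨w, hPw, hbw⟩ : ∃ w : Fin n → ZMod p,
        (∀ t ∈ (P : Subgroup ↥(Subgroup.closure ({a, b} : Set Q))), ρ (t : Q) *ᵥ w = w) ∧ ρ b *ᵥ w ≠ w := by
      let X := Subgroup.closure ({a, b} : Set Q)
      let b' : X := ⟨b, Subgroup.subset_closure (Set.mem_insert_of_mem _ rfl)⟩
      have hgen : Subgroup.closure ({a', b'} : Set X) = ⊤ := by
        refine eq_top_iff.mpr ((Subgroup.closure_closure_coe_preimage (k := ({a, b} : Set Q))).ge.trans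
            (Subgroup.closure_mono ?_))
        rintro ⟨z, hz⟩ hz'
        rcases hz' with hz'' | hz''
        · exact Or.inl (Subtype.ext hz'')
        · exact Or.inr (Subtype.ext hz'')
      let φk := algebraMap (ZMod p) (AlgebraicClosure (ZMod p))
      haveI : CharP (AlgebraicClosure (ZMod p)) p := charP_of_injective_algebraMap φk.injective p
      let ρ' : X →* Matrix (Fin n) (Fin n) (AlgebraicClosure (ZMod p)) :=
        φk.mapMatrix.toMonoidHom.comp (ρ.comp X.subtype)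
      have hρ' : Function.Injective ρ' :=
        (Matrix.map_injective φk.injective).comp (hρ.comp X.subtype_injective)
      have hq : ∀ g : X, (ρ (g : Q) - 1) * (ρ (g : Q) - 1) = 0 → (ρ' g - 1) * (ρ' g - 1) = 0 := fun g h => by
        show (φk.mapMatrix (ρ (g : Q)) - 1) * (φk.mapMatrix (ρ (g : Q)) - 1) = 0
        rw [← map_one φk.mapMatrix, ← map_sub, ← map_mul, h, map_zero]
      obtain ⟨μ, ψ, e₁, e₂, hμ, hψa, hψb, hind, hact⟩ := Cfsg.Lib.QuadPair.exists_planeHom ρ' hgen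
        (hq a' hqa.2) (hq b' hqb.2) fun hnil =>
          hg (Cfsg.Lib.QuadPair.isPGroup_of_nilpotent ρ' hρ' hgen (hq a' hqa.2) (hq b' hqb.2) hnil)
      obtain ⟨i, hi⟩ : ∃ i, e₂ i ≠ 0 := by
        by_contra h
        push Not at h
        have := (hind 0 1 (by rw [one_smul, zero_smul, zero_add]; exact funext h)).2
        exact one_ne_zero this
      obtain ⟨lam, hlam⟩ := Module.Projective.exists_dual_ne_zero (ZMod p) hi
      have hmove : ∀ (g : X) (x : Fin n → AlgebraicClosure (ZMod p)),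
          (fun j => lam ((ρ' g *ᵥ x) j)) = ρ (g : Q) *ᵥ fun j => lam (x j) := by
        intro g x
        funext j
        simp only [mulVec, dotProduct, map_sum]
        refine Finset.sum_congr rfl fun l _ => ?_
        show lam (φk (ρ (g : Q) j l) * x l) = _
        rw [← Algebra.smul_def, map_smul, smul_eq_mul]
      refine ⟨fun j => lam (e₁ j), fun t ht => ?_, fun h => hlam ?_⟩
      · have htr : ∀ s ∈ (P : Subgroup X), SLTwoSub.tr (ψ s) = 2 := fun s hs => by
          obtain ⟨j, hj⟩ := P.2 ⟨s, hs⟩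
          exact SLTwoSub.tr_of_pow (p := p) (k := j)
            (by rw [← map_pow, show s ^ p ^ j = 1 from congrArg Subtype.val hj, map_one])
        have h1 := htr t ht
        have h2 := htr _ ((P : Subgroup X).mul_mem ht hP)
        rw [map_mul] at h2
        unfold SLTwoSub.tr at h1 h2
        rw [SLTwoSub.mul_entries, SLTwoSub.mul_entries, hψa] at h2
        simp at h2
        have h10 : (ψ t).1 1 0 = 0 := by
          have : (ψ t).1 1 0 * μ = 0 := by linear_combination h2 - h1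
          exact (mul_eq_zero.mp this).resolve_right hμ
        have hd := SLTwoSub.det_eq (ψ t)
        rw [h10, mul_zero, sub_zero] at hd
        have : ((ψ t).1 0 0 - 1) ^ 2 = 0 := by linear_combination (ψ t).1 0 0 * h1 - hd
        have h00 : (ψ t).1 0 0 = 1 := sub_eq_zero.mp (sq_eq_zero_iff.mp this)
        rw [← hmove, (hact t).1, h10, h00, one_smul, zero_smul, add_zero]
      · have h1 := (hact b').1
        rw [hψb] at h1
        simp at h1
        have h2 := congrFun (hmove b' e₁) i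
        rw [h1] at h2
        have h3 : lam ((e₁ + e₂) i) = lam (e₁ i) := h2.trans (congrFun h i)
        rw [Pi.add_apply, map_add, add_eq_left] at h3
        exact h3
    exact pair_data hp ρ R E hE hqa.2 hqb.2 (hR ▸ Subgroup.mem_top a) P hP
      (fun d _ => hR ▸ Subgroup.mem_top _) w (hEt ▸ AddSubgroup.mem_top w) hPw hbw
  -- a maximal subgroup with large normalizer
  set N₀ : Subgroup Q → Subgroup Q := fun D => (T : Subgroup Q) ⊓ Subgroup.normalizer (D : Set Q)
  let big : Subgroup Q → ℕ := fun D => Nat.card D * (Nat.card Q + 1) + Nat.card (N₀ D)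
  obtain ⟨D, ⟨hDT, hD, hDR⟩, hmax⟩ := Set.exists_max_image
    {D : Subgroup Q | D ≤ (T : Subgroup Q) ∧ D = qcl ρ D ∧ ¬ Subgroup.normalizer (D : Set Q) ≤ R} big
    (Set.toFinite _) ⟨⊥, bot_le, qcl_bot.symm, fun h => hR (top_le_iff.mp ((Subgroup.normalizer_eq_top ⊥).ge.trans h))⟩
  have hlarge : ∀ D' : Subgroup Q, D' ≤ (T : Subgroup Q) → D' = qcl ρ D' → Nat.card D < Nat.card D' →
      Subgroup.normalizer (D' : Set Q) ≤ R := by
    intro D' h1 h2 h3
    by_contra h4
    have h5 := hmax D' ⟨h1, h2, h4⟩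
    have h6 := Subgroup.card_le_card_group (N₀ D)
    simp only [big] at h5
    have h7 : (Nat.card D + 1) * (Nat.card Q + 1) ≤ Nat.card D' * (Nat.card Q + 1) :=
      Nat.mul_le_mul_right _ h3
    rw [add_mul, one_mul] at h7
    omega
  -- conjugates inside `T` of larger subgroups are conjugate in `R`
  have huniq : ∀ k, ∀ Dz : Subgroup Q, Nat.card Q - Nat.card Dz = k → Dz ≤ (T : Subgroup Q) → Dz = qcl ρ Dz →
      Nat.card D < Nat.card Dz → ∀ l : Q, Dz.map (MulAut.conj l).toMonoidHom ≤ (T : Subgroup Q) → l ∈ R := by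
    intro k
    induction k using Nat.strong_induction_on with
    | _ k ih =>
    intro Dz hk hz1 hz2 hz3 l hl
    have hz2' : Dz.map (MulAut.conj l).toMonoidHom = qcl ρ (Dz.map (MulAut.conj l).toMonoidHom) := by
      conv_lhs => rw [hz2]
      rw [qcl_map]
    have hc : Nat.card (Dz.map (MulAut.conj l).toMonoidHom) = Nat.card Dz := Cfsg.Lib.Transfer.card_map_conj _ _
    by_cases he : Dz = qcl ρ (T : Subgroup Q)
    · refine hN (mem_normalizer_of_le ?_)
      rw [← he]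
      conv_lhs => rw [hz2']
      exact (qcl_mono hl).trans he.ge
    obtain ⟨a, haT, hqa, han, had⟩ := exists_quad_normalizing T.2 hz1 hz2 he
    set D₁ := qcl ρ (N₀ Dz) with hD₁
    have hlt : Dz < D₁ := by
      refine lt_of_le_of_ne ?_ fun e => had (e ▸ mem_qcl ⟨haT, han⟩ hqa)
      rw [hz2]
      exact qcl_mono (le_inf hz1 Subgroup.le_normalizer)
    have hNl : (N₀ Dz).map (MulAut.conj l).toMonoidHom ≤ R :=
      ((Subgroup.map_mono inf_le_right).trans (Subgroup.le_normalizer_map _)).trans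
        (le_trans (le_of_eq (by rfl)) (hlarge _ hl hz2' (hc ▸ hz3)))
    obtain ⟨r, hr, hrN⟩ := exists_conj_into T hTR ((T.2.to_le inf_le_left).map _) hNl
    have hcard : Nat.card Dz < Nat.card D₁ :=
      lt_of_le_of_ne (Subgroup.card_le_of_le hlt.le) fun e => hlt.ne (Subgroup.eq_of_le_of_card_ge hlt.le e.ge)
    have h1 := ih (Nat.card Q - Nat.card D₁) (by have := Subgroup.card_le_card_group D₁; omega) D₁ rfl
      ((qcl_le _).trans inf_le_left) (qcl_qcl _).symm (hz3.trans hcard) (r * l) (by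
        rw [← Cfsg.Lib.Transfer.map_conj_map_conj]
        exact (Subgroup.map_mono (Subgroup.map_mono (qcl_le _))).trans hrN)
    have := R.mul_mem (R.inv_mem hr) h1
    rwa [inv_mul_cancel_left] at this
  set L := Subgroup.normalizer (D : Set Q) with hL
  have hDL : D ≤ L := Subgroup.le_normalizer
  have hDne : D ≠ qcl ρ (T : Subgroup Q) := fun e => hDR (by rw [hL, e]; exact hN)
  have hgrow : ∀ W : Subgroup Q, D ≤ W → ∀ a, a ∈ W → Quad ρ a → a ∉ D → Nat.card D < Nat.card (qcl ρ W) := by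
    intro W hDW a haW hqa had
    have hle : D ≤ qcl ρ W := by rw [hD]; exact qcl_mono hDW
    exact lt_of_le_of_ne (Subgroup.card_le_of_le hle) fun e =>
      had (Subgroup.eq_of_le_of_card_ge hle e.ge ▸ mem_qcl haW hqa)
  obtain ⟨a, haT, hqa, haL, haD⟩ := exists_quad_normalizing T.2 hDT hD hDne
  have hN0T : N₀ D ≤ (T : Subgroup Q) := inf_le_left
  have hDN0 : D ≤ N₀ D := le_inf hDT Subgroup.le_normalizer
  have hD1R : Subgroup.normalizer ((qcl ρ (N₀ D) : Subgroup Q) : Set Q) ≤ R :=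
    hlarge _ ((qcl_le _).trans hN0T) (qcl_qcl _).symm (hgrow _ hDN0 a ⟨haT, haL⟩ hqa haD)
  -- the Sylow subgroups of `L`
  have hsyl : ∀ W : Subgroup Q, IsPGroup p W → N₀ D ≤ W → W ≤ L → W = N₀ D := by
    intro W hW hle hWL
    by_contra hne
    obtain ⟨x, hxW, hxN, hx⟩ := normalizer_condition hW (lt_of_le_of_ne hle (Ne.symm hne))
    have hxR : x ∈ R := hD1R (normalizer_le_normalizer_qcl _ hxN)
    set W' := N₀ D ⊔ Subgroup.zpowers x
    have hW' : W' ≤ W := sup_le hle (Subgroup.zpowers_le.mpr hxW)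
    obtain ⟨r, hr, hrW⟩ := exists_conj_into T hTR (hW.to_le hW')
      (sup_le (hN0T.trans hTR) (Subgroup.zpowers_le.mpr hxR))
    have hlt : N₀ D < W' := lt_of_le_of_ne le_sup_left fun e =>
      hx (e ▸ Subgroup.mem_sup_right (Subgroup.mem_zpowers x))
    set D' := D.map (MulAut.conj r).toMonoidHom
    have h1 : D' ∈ {D : Subgroup Q | D ≤ (T : Subgroup Q) ∧ D = qcl ρ D ∧ ¬ Subgroup.normalizer (D : Set Q) ≤ R} := by
      refine ⟨(Subgroup.map_mono (hDN0.trans hlt.le)).trans hrW, ?_, fun h => hDR fun y hy => ?_⟩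
      · conv_lhs => rw [show D' = (qcl ρ D).map (MulAut.conj r).toMonoidHom by rw [← hD]]
        rw [← qcl_map]
      · have h2 : r * y * r⁻¹ ∈ R := h (Subgroup.le_normalizer_map _ ⟨y, hy, rfl⟩)
        have := R.mul_mem (R.mul_mem (R.inv_mem hr) h2) hr
        simpa [mul_assoc] using this
    have h2 : W'.map (MulAut.conj r).toMonoidHom ≤ N₀ D' :=
      le_inf hrW ((Subgroup.map_mono (hW'.trans hWL)).trans (Subgroup.le_normalizer_map _))
    have h3 := hmax D' h1
    have h4 : Nat.card (N₀ D) < Nat.card (N₀ D') := by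
      have h5 := Subgroup.card_le_of_le h2
      rw [Cfsg.Lib.Transfer.card_map_conj] at h5
      exact lt_of_lt_of_le (lt_of_le_of_ne (Subgroup.card_le_of_le hlt.le)
        fun e => hlt.ne (Subgroup.eq_of_le_of_card_ge hlt.le e.ge)) h5
    simp only [big, D', Cfsg.Lib.Transfer.card_map_conj] at h3
    exact absurd h3 (by simp only [D'] at h4; omega)
  -- conjugating a `p`-subgroup of `L` into `N₀ D`
  have hinto : ∀ W : Subgroup Q, IsPGroup p W → W ≤ L →
      ∃ l ∈ L, W.map (MulAut.conj l).toMonoidHom ≤ N₀ D := by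
    intro W hW hWL
    obtain ⟨T₂, hT₂⟩ := ((T.2.to_le hN0T).comap_subtype (K := L) :
      IsPGroup p ((N₀ D).subgroupOf L)).exists_le_sylow
    have e : (T₂ : Subgroup L).map L.subtype = N₀ D := by
      refine hsyl _ (T₂.2.map _) ?_ (Subgroup.map_subtype_le _)
      intro w hw
      exact ⟨⟨w, (inf_le_right : N₀ D ≤ L) hw⟩, hT₂ hw, rfl⟩
    obtain ⟨T₃, hT₃⟩ := (hW.comap_subtype (K := L) : IsPGroup p (W.subgroupOf L)).exists_le_sylow
    obtain ⟨l, hl⟩ := MulAction.exists_smul_eq L T₃ T₂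
    refine ⟨l, l.2, ?_⟩
    rintro _ ⟨w, hw, rfl⟩
    have h : l * ⟨w, hWL hw⟩ * l⁻¹ ∈ (T₂ : Subgroup L) := by
      rw [← hl, Cfsg.Lib.Transfer.sylow_smul_coe]
      exact ⟨_, hT₃ hw, rfl⟩
    rw [← e]
    exact ⟨_, h, rfl⟩
  -- a conjugate outside `R`
  obtain ⟨g, hgL, hgR⟩ : ∃ g ∈ L, g * a * g⁻¹ ∉ R := by
    by_contra h
    push Not at h
    set K₂ := Subgroup.closure {x | ∃ g ∈ L, g * a * g⁻¹ = x} ⊔ D with hK₂
    have hK₂R : K₂ ≤ R := sup_le ((Subgroup.closure_le _).mpr fun x ⟨g, hg, e⟩ => e ▸ h g hg) (hDT.trans hTR)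
    have hK₂L : K₂ ≤ L := sup_le ((Subgroup.closure_le _).mpr fun x ⟨g, hg, e⟩ => e ▸
      L.mul_mem (L.mul_mem hg haL) (L.inv_mem hg)) hDL
    have hnorm : L ≤ Subgroup.normalizer (K₂ : Set Q) := fun y hy => mem_normalizer_of_le (by
      rw [hK₂, Subgroup.map_sup, MonoidHom.map_closure]
      refine sup_le_sup ?_ (le_of_eq (Cfsg.Lib.Transfer.map_conj_eq_self_iff.mpr hy))
      refine Subgroup.closure_mono ?_
      rintro _ ⟨_, ⟨g, hg, rfl⟩, rfl⟩
      exact ⟨y * g, L.mul_mem hy hg, by simp [mul_assoc]⟩)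
    set P₂ := N₀ D ⊓ K₂
    have hD2R : Subgroup.normalizer ((qcl ρ P₂ : Subgroup Q) : Set Q) ≤ R :=
      hlarge _ ((qcl_le _).trans (inf_le_left.trans hN0T)) (qcl_qcl _).symm
        (hgrow _ (le_inf hDN0 le_sup_right) a
          ⟨⟨haT, haL⟩, Subgroup.mem_sup_left (Subgroup.subset_closure ⟨1, L.one_mem, by simp⟩)⟩ hqa haD)
    -- `P₂` is a Sylow subgroup of `K₂`
    obtain ⟨S₂, hS₂⟩ := ((T.2.to_le (inf_le_left.trans hN0T : P₂ ≤ _)).comap_subtype (K := K₂) :
      IsPGroup p (P₂.subgroupOf K₂)).exists_le_sylow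
    have hmaxP : ∀ W : Subgroup Q, IsPGroup p W → W ≤ K₂ → P₂ ≤ W → W = P₂ := by
      intro W hW hWK hle
      obtain ⟨l, hl, hlW⟩ := hinto W hW (hWK.trans hK₂L)
      refine (Subgroup.eq_of_le_of_card_ge hle ?_).symm
      rw [← Cfsg.Lib.Transfer.card_map_conj W l]
      refine Subgroup.card_le_of_le (le_inf hlW ((Subgroup.map_mono hWK).trans (le_of_eq ?_)))
      exact Cfsg.Lib.Transfer.map_conj_eq_self_iff.mpr (hnorm hl)
    have hS₂e : (S₂ : Subgroup K₂).map K₂.subtype = P₂ := by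
      refine hmaxP _ (S₂.2.map _) (Subgroup.map_subtype_le _) ?_
      intro w hw
      exact ⟨⟨w, (inf_le_right : P₂ ≤ K₂) hw⟩, hS₂ hw, rfl⟩
    refine hDR fun y hy => ?_
    -- Frattini
    set Y := P₂.map (MulAut.conj y).toMonoidHom
    have hYK : Y ≤ K₂ :=
      (Subgroup.map_mono inf_le_right).trans (le_of_eq (Cfsg.Lib.Transfer.map_conj_eq_self_iff.mpr (hnorm hy)))
    obtain ⟨S₃, hS₃⟩ := (((T.2.to_le (inf_le_left.trans hN0T : P₂ ≤ _)).map _).comap_subtype (K := K₂) :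
      IsPGroup p (Y.subgroupOf K₂)).exists_le_sylow
    obtain ⟨k, hk⟩ := MulAction.exists_smul_eq K₂ S₃ S₂
    have hky : (k : Q) * y ∈ Subgroup.normalizer (P₂ : Set Q) := mem_normalizer_of_le (by
      rw [← Cfsg.Lib.Transfer.map_conj_map_conj]
      rintro _ ⟨w, hw, rfl⟩
      rw [← hS₂e]
      have h : k * ⟨w, hYK hw⟩ * k⁻¹ ∈ (S₂ : Subgroup K₂) := by
        rw [← hk, Cfsg.Lib.Transfer.sylow_smul_coe]
        exact ⟨_, hS₃ hw, rfl⟩
      exact ⟨_, h, rfl⟩)
    have := R.mul_mem (R.inv_mem (hK₂R k.2)) (hD2R (normalizer_le_normalizer_qcl _ hky))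
    rwa [inv_mul_cancel_left] at this
  -- the pair
  set b := g * a * g⁻¹
  have hbL : b ∈ L := L.mul_mem (L.mul_mem hgL haL) (L.inv_mem hgL)
  set X := Subgroup.closure ({a, b} : Set Q)
  have hXL : X ≤ L := (Subgroup.closure_le _).mpr (by
    rintro x (rfl | hx)
    · exact haL
    · rw [Set.mem_singleton_iff.mp hx]; exact hbL)
  set a' : X := ⟨a, Subgroup.subset_closure (Set.mem_insert _ _)⟩
  obtain ⟨P, hP⟩ : ∃ P : Sylow p X, a' ∈ (P : Subgroup X) := by
    have h1 : a' ^ p ^ 1 = 1 := Subtype.ext (by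
      rw [SubgroupClass.coe_pow, pow_one, OneMemClass.coe_one]; exact hqa.pow_eq_one hρ)
    obtain ⟨i, -, hi⟩ := (Nat.dvd_prime_pow (Fact.out : p.Prime)).mp (orderOf_dvd_of_pow_eq_one h1)
    have hz : IsPGroup p (Subgroup.zpowers a') := IsPGroup.of_card (n := i) (by rw [Nat.card_zpowers, hi])
    obtain ⟨P, hP⟩ := hz.exists_le_sylow
    exact ⟨P, hP (Subgroup.mem_zpowers a')⟩
  set TX := (P : Subgroup X).map X.subtype
  have hTXL : TX ≤ L := (Subgroup.map_subtype_le _).trans hXL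
  set W := TX ⊔ D
  have hWp : IsPGroup p W :=
    IsPGroup.to_sup_of_normal_right' (P.2.map _) (T.2.to_le hDT) (hTXL.trans le_rfl)
  obtain ⟨l, hlL, hlW⟩ := hinto W hWp (sup_le hTXL hDL)
  set Dz := qcl ρ W
  have haW : a ∈ W := Subgroup.mem_sup_left ⟨a', hP, rfl⟩
  have hDz : Nat.card D < Nat.card Dz := hgrow W le_sup_right a haW hqa haD
  have hlR : l ∈ R := by
    set Da := qcl ρ (D ⊔ Subgroup.zpowers a)
    refine huniq _ Da rfl ((qcl_le _).trans (sup_le hDT (Subgroup.zpowers_le.mpr haT))) (qcl_qcl _).symm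
      (hgrow _ le_sup_left a (Subgroup.mem_sup_right (Subgroup.mem_zpowers a)) hqa haD) l ?_
    refine ((Subgroup.map_mono ((qcl_le _).trans (sup_le le_sup_right (Subgroup.zpowers_le.mpr haW)))).trans hlW).trans
      hN0T
  set w := ρ l⁻¹ *ᵥ v
  refine pair_data hp ρ R E hE hqa.2 (hqa.conj g).2 (hTR haT) P hP (fun d hd => ?_) w
    (hE _ (R.inv_mem hlR) v hv) (fun t ht => ?_) (fun hbw => ?_)
  · have hdTX : (d : Q) ∈ Subgroup.normalizer (TX : Set Q) :=
      Subgroup.le_normalizer_map X.subtype ⟨d, hd, rfl⟩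
    have hdW : (d : Q) ∈ Subgroup.normalizer (W : Set Q) := mem_normalizer_of_le (by
      rw [Subgroup.map_sup]
      exact sup_le_sup (le_of_eq (Cfsg.Lib.Transfer.map_conj_eq_self_iff.mpr hdTX))
        (le_of_eq (Cfsg.Lib.Transfer.map_conj_eq_self_iff.mpr (hXL d.2))))
    have h1 : l * d * l⁻¹ ∈ Subgroup.normalizer ((Dz.map (MulAut.conj l).toMonoidHom : Subgroup Q) : Set Q) :=
      Subgroup.le_normalizer_map _ ⟨d, normalizer_le_normalizer_qcl _ hdW, rfl⟩
    have h2 : l * d * l⁻¹ ∈ R := hlarge (Dz.map (MulAut.conj l).toMonoidHom)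
      (((Subgroup.map_mono (qcl_le _)).trans hlW).trans hN0T) (by rw [qcl_map, qcl_qcl])
      (by rw [Cfsg.Lib.Transfer.card_map_conj]; exact hDz) h1
    have := R.mul_mem (R.mul_mem (R.inv_mem hlR) h2) hlR
    simpa [mul_assoc] using this
  · have h1 : l * t * l⁻¹ ∈ (T : Subgroup Q) :=
      hN0T (hlW ⟨t, Subgroup.mem_sup_left ⟨t, ht, rfl⟩, rfl⟩)
    have h2 := congrArg (ρ l⁻¹ *ᵥ ·) (hTv _ h1)
    simp only [mulVec_mulVec, ← map_mul] at h2
    rw [show l⁻¹ * (l * t * l⁻¹) = (t : Q) * l⁻¹ by group, map_mul, ← mulVec_mulVec] at h2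
    exact h2
  · refine hgR ?_
    have h2 := congrArg (ρ l *ᵥ ·) hbw
    simp only [w, mulVec_mulVec, ← map_mul] at h2
    rw [mul_inv_cancel, map_one, one_mulVec] at h2
    have h3 := R.mul_mem (R.mul_mem (R.inv_mem hlR) (hfix _ (show ρ (l * (b * l⁻¹)) *ᵥ v = v from h2))) hlR
    simpa [mul_assoc] using h3

end Cfsg.Lib.ZJFail
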