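import Cfsg.Agent.Components.ZJ.Glauberman
import Cfsg.Agent.Components.ZJFail.Select

/-!
The setting for the failure of `Z(J)` to control strong fusion.
-/

set_option autoImplicit false
set_option linter.unusedSectionVars false
set_option linter.style.haveILetI false

namespace Cfsg.Lib.ZJFail

open Subgroup
open Cfsg.Lib.CtrlD (Ag)
open Cfsg.Lib.Control (img)
open scoped commutatorElement

universe u

variable {p : ℕ} [Fact p.Prime] {G : Type u} [Group G] [Finite G]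

/-- `Z(J(S))` -/
abbrev zj (S : Sylow p G) : Subgroup G := Cfsg.centerThompsonAOf (S : Subgroup G)

/-- the conclusion -/
def Concl (S : Sylow p G) : Prop :=
  Cfsg.Involves ↥(Cfsg.fOver (ZMod p)) ↥(normalizer ((zj S : Subgroup G) : Set G)) ∧
    ∃ (C : Subgroup G) (x : G) (u : (ZMod p)ˣ), C ≤ zj S ∧ Nat.card C = p ∧
      x ∈ normalizer ((zj S : Subgroup G) : Set G) ∧ (∀ v : (ZMod p)ˣ, v ∈ zpowers u) ∧
        ∀ c ∈ C, x * c * x⁻¹ = c ^ (u : ZMod p).val

/-- the normalizer of `Z(J(S))` controls every fusion in `S` -/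
def Agrees (S : Sylow p G) : Prop :=
  ∀ (A : Set G) (g : G), A ⊆ (S : Subgroup G) → img g A ⊆ (S : Subgroup G) →
    Ag (normalizer ((zj S : Subgroup G) : Set G)) A g

theorem zj_le (S : Sylow p G) : zj S ≤ (S : Subgroup G) :=
  inf_le_left.trans (Subgroup.map_subtype_le _)

theorem normalizer_le_normalizer_zj (D : Subgroup G) :
    normalizer (D : Set G) ≤ normalizer ((Cfsg.centerThompsonAOf D : Subgroup G) : Set G) := by
  intro x hx
  refine Cfsg.Lib.Transfer.map_conj_eq_self_iff.mp ?_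
  rw [Cfsg.Lib.ZJ.centerThompsonAOf_map (MulAut.conj x) D, Cfsg.Lib.Transfer.map_conj_eq_self_iff.mpr hx]

theorem ag_img_eq {N : Subgroup G} {A : Set G} {g : G} (h : Ag N A g) :
    ∃ n ∈ N, img n A = img g A := by
  obtain ⟨n, hn, hng⟩ := h
  exact ⟨n, hn, Set.image_congr hng⟩

theorem img_subgroup (g : G) (E : Subgroup G) :
    img g (E : Set G) = ((E.map (MulAut.conj g).toMonoidHom : Subgroup G) : Set G) := rfl

theorem mem_normalizer_of_conj_le {D : Subgroup G} {g : G}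
    (h : ∀ x ∈ D, g * x * g⁻¹ ∈ D) : g ∈ normalizer (D : Set G) :=
  mem_normalizer_of_le (by rintro _ ⟨x, hx, rfl⟩; exact h x hx)

/-- the elements of `K` agreeing with the normalizer on an invariant subgroup -/
def agreeGroup (N K B : Subgroup G) (hB : K ≤ normalizer (B : Set G)) : Subgroup G where
  carrier := {g | g ∈ K ∧ Ag N (B : Set G) g}
  one_mem' := ⟨one_mem _, Ag.of_mem (one_mem _)⟩
  mul_mem' := fun {g h} hg hh => ⟨mul_mem hg.1 hh.1, hh.2.trans (by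
    rw [img_subgroup, Cfsg.Lib.Transfer.map_conj_eq_self_iff.mpr (hB hh.1)]
    exact hg.2)⟩
  inv_mem' := fun {g} hg => ⟨inv_mem hg.1, by
    have := hg.2.inv
    rwa [img_subgroup, Cfsg.Lib.Transfer.map_conj_eq_self_iff.mpr (hB hg.1)] at this⟩

/-- the data of a minimal failure -/
structure Setup (p : ℕ) [Fact p.Prime] (G : Type u) [Group G] [Finite G] where
  S : Sylow p G
  hp : p ≠ 2
  Z : Subgroup G
  Zn : Z.Normal
  hZ : Z ≤ zj S
  hcop : ∀ x : G, (orderOf x).Coprime p → x ∈ centralizer (Z : Set G)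
  w : G
  hw : w ∈ zj S
  hwp : w ^ p ∈ Z
  hwS : ∀ s ∈ (S : Subgroup G), ⁅s, w⁆ ∈ Z
  hKw : ∃ x : G, ⁅x, w⁆ ∉ Z
  hno : ¬ Concl S
  hnn : ¬ (zj S).Normal
  ind : ∀ K : Subgroup G, (S : Subgroup G) ≤ K → K ≠ ⊤ → ∀ k ∈ K, ∀ A : Set G,
    A ⊆ (S : Subgroup G) → img k A ⊆ (S : Subgroup G) → Ag (normalizer ((zj S : Subgroup G) : Set G)) A k

attribute [instance] Setup.Zn

namespace Setup

variable (X : Setup p G)

/-- `N(Z(J(S)))` -/
abbrev H : Subgroup G := normalizer ((zj X.S : Subgroup G) : Set G)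

/-- the quotient map -/
abbrev π : G →* G ⧸ X.Z := QuotientGroup.mk' X.Z

theorem π_eq_one {g : G} : X.π g = 1 ↔ g ∈ X.Z := QuotientGroup.eq_one_iff g

theorem S_le_H : (X.S : Subgroup G) ≤ X.H := le_normalizer.trans (normalizer_le_normalizer_zj _)

theorem w_mem : X.w ∈ (X.S : Subgroup G) := zj_le _ X.hw

theorem Z_le : X.Z ≤ (X.S : Subgroup G) := X.hZ.trans (zj_le _)

/-- the stabilizer of the coset of `w` -/
def Kw : Subgroup G := (centralizer ({X.π X.w} : Set (G ⧸ X.Z))).comap X.π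

theorem mem_Kw {g : G} : g ∈ X.Kw ↔ ⁅g, X.w⁆ ∈ X.Z := by
  rw [Kw, mem_comap, mem_centralizer_singleton_iff, ← X.π_eq_one, map_commutatorElement,
    commutatorElement_eq_one_iff_mul_comm]

theorem S_le_Kw : (X.S : Subgroup G) ≤ X.Kw := fun s hs => X.mem_Kw.mpr (X.hwS s hs)

theorem Kw_ne_top : X.Kw ≠ ⊤ := fun h => by
  obtain ⟨x, hx⟩ := X.hKw
  exact hx (X.mem_Kw.mp (h ▸ mem_top x))

theorem ag_Kw {k : G} (hk : k ∈ X.Kw) {A : Set G} (hA : A ⊆ (X.S : Subgroup G))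
    (hkA : img k A ⊆ (X.S : Subgroup G)) : Ag X.H A k :=
  X.ind X.Kw X.S_le_Kw X.Kw_ne_top k hk A hA hkA

/-- the subgroup generated by `Z` and the conjugates of `w` -/
def Bsub (K : Subgroup G) : Subgroup G := closure {x | ∃ k ∈ K, k * X.w * k⁻¹ = x} ⊔ X.Z

theorem w_mem_Bsub (K : Subgroup G) : X.w ∈ X.Bsub K :=
  mem_sup_left (subset_closure ⟨1, K.one_mem, by simp⟩)

theorem Z_le_Bsub (K : Subgroup G) : X.Z ≤ X.Bsub K := le_sup_right

theorem Bsub_le {K B : Subgroup G} (hK : K ≤ normalizer (B : Set G)) (hw : X.w ∈ B) (hZ : X.Z ≤ B) :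
    X.Bsub K ≤ B :=
  sup_le ((closure_le _).mpr (by rintro _ ⟨k, hk, rfl⟩; exact (mem_normalizer_iff.mp (hK hk) _).mp hw)) hZ

theorem le_normalizer_Bsub (K : Subgroup G) : K ≤ normalizer (X.Bsub K : Set G) := by
  intro y hy
  refine mem_normalizer_of_le ?_
  rw [Bsub, Subgroup.map_sup, MonoidHom.map_closure]
  refine sup_le_sup (closure_mono ?_)
    (le_of_eq (Cfsg.Lib.Transfer.map_conj_eq_self_iff.mpr (le_normalizer_of_normal (mem_top y) : y ∈ normalizer (X.Z : Set G))))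
  rintro _ ⟨_, ⟨k, hk, rfl⟩, rfl⟩
  exact ⟨y * k, K.mul_mem hy hk, by simp [mul_assoc]⟩

theorem Bsub_map (K : Subgroup G) :
    (X.Bsub K).map X.π = closure {y | ∃ k ∈ K, X.π (k * X.w * k⁻¹) = y} := by
  rw [Bsub, Subgroup.map_sup, show X.Z.map X.π = ⊥ from (Subgroup.map_eq_bot_iff _).mpr
    (by rw [QuotientGroup.ker_mk']), sup_bot_eq, MonoidHom.map_closure]
  congr 1
  ext y
  constructor
  · rintro ⟨_, ⟨k, hk, rfl⟩, rfl⟩; exact ⟨k, hk, rfl⟩
  · rintro ⟨k, hk, rfl⟩; exact ⟨_, ⟨k, hk, rfl⟩, rfl⟩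

theorem Bsub_elementary {K : Subgroup G} (hBS : X.Bsub K ≤ (X.S : Subgroup G)) :
    Cfsg.IsElementaryAbelian p ((X.Bsub K).map X.π) := by
  set gens := {y | ∃ k ∈ K, X.π (k * X.w * k⁻¹) = y}
  have hcomm : ∀ y ∈ gens, ∀ z ∈ gens, y * z = z * y := by
    rintro _ ⟨k, hk, rfl⟩ _ ⟨l, hl, rfl⟩
    have h1 : l⁻¹ * k * X.w * (l⁻¹ * k)⁻¹ ∈ (X.S : Subgroup G) :=
      hBS (mem_sup_left (subset_closure ⟨l⁻¹ * k, K.mul_mem (K.inv_mem hl) hk, rfl⟩))
    have h2 := X.π_eq_one.mpr ((inferInstance : X.Z.Normal).conj_mem _ (X.hwS _ h1) l)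
    rw [← commutatorElement_eq_one_iff_mul_comm, ← map_commutatorElement]
    refine Eq.trans (congrArg X.π ?_) h2
    simp only [commutatorElement_def]
    group
  haveI hcm : IsMulCommutative (closure gens) := isMulCommutative_closure hcomm
  refine ⟨X.Bsub_map K ▸ hcm, fun y hy => ?_⟩
  rw [X.Bsub_map] at hy
  refine closure_induction (p := fun y _ => y ^ p = 1) ?_ (one_pow p) (fun y z hy hz e1 e2 => ?_)
    (fun y _ e => by rw [inv_pow, e, inv_one]) hy
  · rintro _ ⟨k, hk, rfl⟩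
    rw [← map_pow, conj_pow]
    exact X.π_eq_one.mpr ((inferInstance : X.Z.Normal).conj_mem _ X.hwp k)
  · have hc : Commute y z :=
      congrArg Subtype.val (hcm.is_comm.comm (⟨y, hy⟩ : closure gens) ⟨z, hz⟩)
    rw [hc.mul_pow, e1, e2, one_mul]

/-- the kernel of the action on the image of `B` -/
def CV (K B : Subgroup G) : Subgroup G :=
  K ⊓ (centralizer ((B.map X.π : Subgroup (G ⧸ X.Z)) : Set (G ⧸ X.Z))).comap X.π

theorem mem_CV {K B : Subgroup G} {g : G} :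
    g ∈ X.CV K B ↔ g ∈ K ∧ ∀ b ∈ B, ⁅g, b⁆ ∈ X.Z := by
  refine and_congr_right fun _ => ?_
  show X.π g ∈ centralizer ((B.map X.π : Subgroup (G ⧸ X.Z)) : Set (G ⧸ X.Z)) ↔ _
  rw [mem_centralizer_iff]
  constructor
  · intro h b hb
    rw [← X.π_eq_one, map_commutatorElement, commutatorElement_eq_one_iff_mul_comm]
    exact (h _ (mem_map_of_mem _ hb)).symm
  · rintro h _ ⟨b, hb, rfl⟩
    have h1 := X.π_eq_one.mpr (h b hb)
    rw [map_commutatorElement, commutatorElement_eq_one_iff_mul_comm] at h1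
    exact h1.symm

theorem CV_le (K B : Subgroup G) : X.CV K B ≤ K := inf_le_left

theorem CV_le_Kw (K : Subgroup G) : X.CV K (X.Bsub K) ≤ X.Kw := fun g hg =>
  X.mem_Kw.mpr ((X.mem_CV.mp hg).2 _ (X.w_mem_Bsub K))

theorem le_normalizer_CV {K B : Subgroup G} (hB : K ≤ normalizer (B : Set G)) :
    K ≤ normalizer (X.CV K B : Set G) := by
  intro y hy
  refine mem_normalizer_of_conj_le fun g hg => ?_
  obtain ⟨hgK, hgB⟩ := X.mem_CV.mp hg
  refine X.mem_CV.mpr ⟨K.mul_mem (K.mul_mem hy hgK) (K.inv_mem hy), fun b hb => ?_⟩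
  have h1 := (inferInstance : X.Z.Normal).conj_mem _
    (hgB _ ((mem_normalizer_iff.mp (hB (K.inv_mem hy)) b).mp hb)) y
  refine (congrArg (· ∈ X.Z) ?_).mp h1
  simp only [commutatorElement_def]
  group

end Setup

end Cfsg.Lib.ZJFail
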