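import Cfsg.Agent.Components.ZJFail.Basic
import Cfsg.Agent.Fusion.ThompsonControl

/-!
The measure of a subgroup: the abelian subgroups of largest order of its image.
-/

set_option autoImplicit false
set_option linter.unusedSectionVars false
set_option linter.style.haveILetI false

namespace Cfsg.Lib.ZJFail

open Subgroup
open Cfsg.Lib.Fusion (maxAb maxAb_nonempty thompsonAOf_eq)
open scoped commutatorElement

universe u

variable {p : ℕ} [Fact p.Prime] {G : Type u} [Group G] [Finite G]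

theorem maxAb_card_eq {Q : Type u} [Group Q] [Finite Q] {T A A' : Subgroup Q} (hA : A ∈ maxAb T)
    (hA' : A' ∈ maxAb T) : Nat.card A = Nat.card A' :=
  le_antisymm (hA'.2.2 A hA.1 hA.2.1) (hA.2.2 A' hA'.1 hA'.2.1)

/-- if the subgroups of largest order lie in `U` then they are those of `U` -/
theorem maxAb_eq_of_le {Q : Type u} [Group Q] [Finite Q] {T U : Subgroup Q} (hUT : U ≤ T)
    (h : ∀ A ∈ maxAb T, A ≤ U) : maxAb U = maxAb T := by
  obtain ⟨A₀, hA₀⟩ := maxAb_nonempty (T := T)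
  ext A
  constructor
  · intro hA
    exact ⟨hA.1.trans hUT, hA.2.1, fun A' h1 h2 =>
      (hA₀.2.2 A' h1 h2).trans (hA.2.2 A₀ (h A₀ hA₀) hA₀.2.1)⟩
  · intro hA
    exact ⟨h A hA, hA.2.1, fun A' h1 h2 => hA.2.2 A' (h1.trans hUT) h2⟩

namespace Setup

variable (X : Setup p G)

/-- the image of a subgroup -/
abbrev bar (E : Subgroup G) : Subgroup (G ⧸ X.Z) := E.map X.π

/-- the largest order of an abelian subgroup of the image -/
noncomputable def alph (E : Subgroup G) : ℕ :=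
  Nat.card (maxAb_nonempty (T := X.bar E)).choose

theorem card_eq_alph {E : Subgroup G} {A : Subgroup (G ⧸ X.Z)} (hA : A ∈ maxAb (X.bar E)) :
    Nat.card A = X.alph E :=
  maxAb_card_eq hA (maxAb_nonempty (T := X.bar E)).choose_spec

theorem le_alph {E : Subgroup G} {A : Subgroup (G ⧸ X.Z)} (hA : A ≤ X.bar E) (hc : IsMulCommutative A) :
    Nat.card A ≤ X.alph E :=
  (maxAb_nonempty (T := X.bar E)).choose_spec.2.2 A hA hc

theorem mem_maxAb {E : Subgroup G} {A : Subgroup (G ⧸ X.Z)} (hA : A ≤ X.bar E) (hc : IsMulCommutative A)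
    (h : X.alph E ≤ Nat.card A) : A ∈ maxAb (X.bar E) :=
  ⟨hA, hc, fun _ h1 h2 => (X.le_alph h1 h2).trans h⟩

theorem alph_mono {E F : Subgroup G} (h : E ≤ F) : X.alph E ≤ X.alph F := by
  obtain ⟨A, hA⟩ := maxAb_nonempty (T := X.bar E)
  exact X.card_eq_alph hA ▸ X.le_alph (hA.1.trans (map_mono h)) hA.2.1

/-- the subgroup generated by the abelian subgroups of largest order of the image -/
def Jb (E : Subgroup G) : Subgroup (G ⧸ X.Z) := Cfsg.thompsonSubgroupAOf (X.bar E)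

theorem Jb_le (E : Subgroup G) : X.Jb E ≤ X.bar E := Subgroup.map_subtype_le _

theorem le_Jb {E : Subgroup G} {A : Subgroup (G ⧸ X.Z)} (hA : A ∈ maxAb (X.bar E)) : A ≤ X.Jb E := by
  rw [Jb, thompsonAOf_eq]
  exact le_sSup hA

theorem Jb_le_iff {E : Subgroup G} {U : Subgroup (G ⧸ X.Z)} :
    X.Jb E ≤ U ↔ ∀ A ∈ maxAb (X.bar E), A ≤ U := by
  rw [Jb, thompsonAOf_eq, sSup_le_iff]

/-- the subgroup `Y` -/
def Yof (E : Subgroup G) : Subgroup G := (X.Jb E).comap X.π

theorem Z_le_Yof (E : Subgroup G) : X.Z ≤ X.Yof E := fun z hz => by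
  show X.π z ∈ X.Jb E
  rw [X.π_eq_one.mpr hz]
  exact one_mem _

theorem comap_bar {E : Subgroup G} (hZE : X.Z ≤ E) : (X.bar E).comap X.π = E :=
  comap_map_eq_self (by rwa [QuotientGroup.ker_mk'])

theorem mem_of_mem_bar {E : Subgroup G} (hZE : X.Z ≤ E) {g : G} (h : X.π g ∈ X.bar E) : g ∈ E :=
  X.comap_bar hZE ▸ (h : g ∈ (X.bar E).comap X.π)

theorem Yof_le {E : Subgroup G} (hZE : X.Z ≤ E) : X.Yof E ≤ E := fun _ hg =>
  X.mem_of_mem_bar hZE (X.Jb_le E hg)

theorem bar_Yof (E : Subgroup G) : X.bar (X.Yof E) = X.Jb E :=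
  map_comap_eq_self_of_surjective (QuotientGroup.mk'_surjective _) _

theorem bar_map (E : Subgroup G) (g : G) :
    X.bar (E.map (MulAut.conj g).toMonoidHom) = (X.bar E).map (MulAut.conj (X.π g)).toMonoidHom := by
  rw [bar, bar, map_map, map_map]
  congr 1

theorem maxAb_bar_map {E : Subgroup G} {g : G} {A : Subgroup (G ⧸ X.Z)} (hA : A ∈ maxAb (X.bar E)) :
    A.map (MulAut.conj (X.π g)).toMonoidHom ∈ maxAb (X.bar (E.map (MulAut.conj g).toMonoidHom)) :=
  X.bar_map E g ▸ (Cfsg.Lib.ZJ.map_maxAb (X.bar E)).mpr hA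

theorem alph_map (E : Subgroup G) (g : G) : X.alph (E.map (MulAut.conj g).toMonoidHom) = X.alph E := by
  obtain ⟨A, hA⟩ := maxAb_nonempty (T := X.bar E)
  rw [← X.card_eq_alph hA, ← X.card_eq_alph (X.maxAb_bar_map (g := g) hA),
    Cfsg.Lib.Transfer.card_map_conj]

theorem Jb_map (E : Subgroup G) (g : G) :
    X.Jb (E.map (MulAut.conj g).toMonoidHom) = (X.Jb E).map (MulAut.conj (X.π g)).toMonoidHom := by
  refine le_antisymm (X.Jb_le_iff.mpr fun A hA => ?_) ?_
  · have h1 := X.maxAb_bar_map (g := g⁻¹) hA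
    rw [show (E.map (MulAut.conj g).toMonoidHom).map (MulAut.conj g⁻¹).toMonoidHom = E by
      rw [map_map]; convert Subgroup.map_id E; ext x; simp [mul_assoc]] at h1
    have h2 := map_mono (f := (MulAut.conj (X.π g)).toMonoidHom) (X.le_Jb h1)
    rwa [map_map, show (MulAut.conj (X.π g)).toMonoidHom.comp (MulAut.conj (X.π g⁻¹)).toMonoidHom =
      MonoidHom.id (G ⧸ X.Z) by ext x; simp [mul_assoc], Subgroup.map_id] at h2
  · rw [map_le_iff_le_comap]
    refine X.Jb_le_iff.mpr fun A hA => ?_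
    rw [← map_le_iff_le_comap]
    exact X.le_Jb (X.maxAb_bar_map hA)

theorem Yof_map (E : Subgroup G) (g : G) :
    X.Yof (E.map (MulAut.conj g).toMonoidHom) = (X.Yof E).map (MulAut.conj g).toMonoidHom := by
  have hZ : X.Z ≤ (X.Yof E).map (MulAut.conj g).toMonoidHom := fun z hz =>
    ⟨g⁻¹ * z * g, X.Z_le_Yof E (by simpa using (inferInstance : X.Z.Normal).conj_mem z hz g⁻¹), by simp [mul_assoc]⟩
  rw [Yof, X.Jb_map, ← X.bar_Yof E, ← X.bar_map, X.comap_bar hZ]

theorem normalizer_le_normalizer_Yof (E : Subgroup G) :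
    normalizer (E : Set G) ≤ normalizer ((X.Yof E : Subgroup G) : Set G) := fun g hg => by
  refine Cfsg.Lib.Transfer.map_conj_eq_self_iff.mp ?_
  rw [← X.Yof_map, Cfsg.Lib.Transfer.map_conj_eq_self_iff.mpr hg]

/-- the measure -/
noncomputable def mu (E : Subgroup G) : ℕ :=
  (X.alph E * (Nat.card G + 1) + Nat.card (X.Jb E)) * (Nat.card G + 1) + Nat.card E

theorem card_Jb_le (E : Subgroup G) : Nat.card (X.Jb E) ≤ Nat.card G :=
  (card_le_card_group _).trans (Nat.card_le_card_of_surjective _ (QuotientGroup.mk'_surjective X.Z))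

theorem mu_le (E : Subgroup G) : X.mu E ≤ (Nat.card G + 1) ^ 3 := by
  have ha : X.alph E ≤ Nat.card G := (card_le_card_group _).trans
    (Nat.card_le_card_of_surjective _ (QuotientGroup.mk'_surjective X.Z))
  have hj := X.card_Jb_le E
  have he : Nat.card E ≤ Nat.card G := card_le_card_group E
  unfold mu
  calc (X.alph E * (Nat.card G + 1) + Nat.card (X.Jb E)) * (Nat.card G + 1) + Nat.card E
      ≤ (Nat.card G * (Nat.card G + 1) + Nat.card G) * (Nat.card G + 1) + Nat.card G := by gcongr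
    _ ≤ _ := by nlinarith

theorem mu_map (E : Subgroup G) (g : G) : X.mu (E.map (MulAut.conj g).toMonoidHom) = X.mu E := by
  rw [mu, mu, X.alph_map, X.Jb_map, Cfsg.Lib.Transfer.card_map_conj, Cfsg.Lib.Transfer.card_map_conj]

theorem mu_lt_of_alph {E F : Subgroup G} (h : X.alph E < X.alph F) : X.mu E < X.mu F := by
  have hj := X.card_Jb_le E
  have he : Nat.card E ≤ Nat.card G := card_le_card_group E
  have h1 : X.alph E * (Nat.card G + 1) + Nat.card (X.Jb E) + 1 ≤ X.alph F * (Nat.card G + 1) + Nat.card (X.Jb F) := by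
    have : (X.alph E + 1) * (Nat.card G + 1) ≤ X.alph F * (Nat.card G + 1) := Nat.mul_le_mul_right _ h
    nlinarith
  unfold mu
  have h2 := Nat.mul_le_mul_right (Nat.card G + 1) h1
  nlinarith

theorem mu_lt_of_Jb {E F : Subgroup G} (h : X.alph E ≤ X.alph F) (hJ : X.Jb E < X.Jb F) : X.mu E < X.mu F := by
  rcases h.lt_or_eq with h | h
  · exact X.mu_lt_of_alph h
  · have he : Nat.card E ≤ Nat.card G := card_le_card_group E
    have hj : Nat.card (X.Jb E) < Nat.card (X.Jb F) :=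
      lt_of_le_of_ne (card_le_of_le hJ.le) fun e => hJ.ne (eq_of_le_of_card_ge hJ.le e.ge)
    unfold mu
    rw [h]
    have h2 := Nat.mul_le_mul_right (Nat.card G + 1)
      (show X.alph F * (Nat.card G + 1) + Nat.card (X.Jb E) + 1 ≤ X.alph F * (Nat.card G + 1) + Nat.card (X.Jb F) by omega)
    nlinarith

theorem Jb_mono {E F : Subgroup G} (h : X.alph E = X.alph F) (hle : X.Jb E ≤ X.bar F) : X.Jb E ≤ X.Jb F :=
  X.Jb_le_iff.mpr fun A hA => X.le_Jb (X.mem_maxAb ((X.le_Jb hA).trans hle) hA.2.1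
    (by rw [X.card_eq_alph hA, h]))

theorem mu_lt_of_lt {E F : Subgroup G} (h : E < F) : X.mu E < X.mu F := by
  rcases (X.alph_mono h.le).lt_or_eq with ha | ha
  · exact X.mu_lt_of_alph ha
  · rcases (X.Jb_mono ha ((X.Jb_le E).trans (map_mono h.le))).lt_or_eq with hj | hj
    · exact X.mu_lt_of_Jb ha.le hj
    · have hc : Nat.card E < Nat.card F :=
        lt_of_le_of_ne (card_le_of_le h.le) fun e => h.ne (eq_of_le_of_card_ge h.le e.ge)
      unfold mu
      rw [ha, hj]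
      omega

/-- a new member increases the measure -/
theorem mu_lt_of_member {E P F : Subgroup G} (hEP : E ≤ P) (hJF : X.Jb E ≤ X.bar F)
    {A : Subgroup (G ⧸ X.Z)} (hA : A ∈ maxAb (X.bar P)) (hAF : A ≤ X.bar F) (hAJ : ¬ A ≤ X.Jb E) :
    X.mu E < X.mu F := by
  have h0 : X.alph E ≤ Nat.card A := X.card_eq_alph hA ▸ X.alph_mono hEP
  have h1 : Nat.card A ≤ X.alph F := X.le_alph hAF hA.2.1
  rcases (h0.trans h1).lt_or_eq with ha | ha
  · exact X.mu_lt_of_alph ha
  · exact X.mu_lt_of_Jb ha.le (lt_of_le_not_ge (X.Jb_mono ha hJF) fun hle =>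
      hAJ ((X.le_Jb (X.mem_maxAb hAF hA.2.1 (by omega))).trans hle))

/-- the members below `U` -/
theorem Jb_eq_of_le {E P : Subgroup G} (hEP : E ≤ P) (h : ∀ A ∈ maxAb (X.bar P), A ≤ X.bar E) :
    X.Jb E = X.Jb P := by
  rw [Jb, Jb, thompsonAOf_eq, thompsonAOf_eq, maxAb_eq_of_le (map_mono hEP) h]

end Setup

end Cfsg.Lib.ZJFail
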