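import Cfsg.Agent.Quadratic.Natural
import Cfsg.Agent.Transfer.Basic
import Mathlib.LinearAlgebra.Eigenspace.Triangularizable
import Mathlib.Algebra.CharP.Lemmas

/-!
A pair of quadratic elements moving a vector fixed by a Sylow subgroup: a torus element normalizing
that Sylow subgroup, an eigenvector in every invariant group containing the vector, and a natural
plane section for the Borel subgroup.
-/

set_option autoImplicit false
set_option linter.unusedSectionVars false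

namespace Cfsg.Lib.ZJFail

open Matrix

variable {p : ℕ} [Fact p.Prime] {n : ℕ} {Q : Type*} [Group Q] [Finite Q]

/-- a nontrivial element acting quadratically -/
def Quad (ρ : Q →* Matrix (Fin n) (Fin n) (ZMod p)) (g : Q) : Prop :=
  g ≠ 1 ∧ (ρ g - 1) * (ρ g - 1) = 0

theorem pow_of_quad {k : Type*} [Field k] (M : Matrix (Fin n) (Fin n) k)
    (h : (M - 1) * (M - 1) = 0) (m : ℕ) : M ^ m = 1 + (m : k) • (M - 1) := by
  induction m with
  | zero => simp
  | succ m ih =>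
    have e : (M - 1) * M = M - 1 := by
      rw [mul_sub, mul_one] at h
      exact sub_eq_zero.mp h
    rw [pow_succ, ih, add_mul, one_mul, smul_mul_assoc, e, Nat.cast_succ, add_smul, one_smul]
    abel

theorem Quad.pow_eq_one {ρ : Q →* Matrix (Fin n) (Fin n) (ZMod p)} (hρ : Function.Injective ρ)
    {g : Q} (h : Quad ρ g) : g ^ p = 1 :=
  hρ (by rw [map_pow, pow_of_quad _ h.2, ZMod.natCast_self, zero_smul, add_zero, map_one])

theorem Quad.conj {ρ : Q →* Matrix (Fin n) (Fin n) (ZMod p)} {g : Q} (h : Quad ρ g) (x : Q) :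
    Quad ρ (x * g * x⁻¹) := by
  refine ⟨fun e => h.1 ?_, ?_⟩
  · have : g = x⁻¹ * (x * g * x⁻¹) * x := by group
    rw [this, e, mul_one, inv_mul_cancel]
  · have e : ρ (x * g * x⁻¹) - 1 = ρ x * (ρ g - 1) * ρ x⁻¹ := by
      rw [mul_sub, sub_mul, mul_one, ← map_mul, ← map_mul, ← map_mul, mul_inv_cancel, map_one]
    rw [e, show ρ x * (ρ g - 1) * ρ x⁻¹ * (ρ x * (ρ g - 1) * ρ x⁻¹) =
      ρ x * ((ρ g - 1) * (ρ x⁻¹ * ρ x) * (ρ g - 1)) * ρ x⁻¹ by simp only [mul_assoc],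
      ← map_mul, inv_mul_cancel, map_one, mul_one, h.2, mul_zero, zero_mul]

/-- what a pair yields -/
def PairData (ρ : Q →* Matrix (Fin n) (Fin n) (ZMod p)) (R : Subgroup Q)
    (E : AddSubgroup (Fin n → ZMod p)) : Prop :=
  ∃ (u : (ZMod p)ˣ) (d a : Q), (∀ x : (ZMod p)ˣ, x ∈ Subgroup.zpowers u) ∧ d ∈ R ∧ a ∈ R ∧
    (∃ x ∈ E, x ≠ 0 ∧ ρ d *ᵥ x = (u : ZMod p) • x) ∧
    ∃ (U : AddSubgroup (Fin n → ZMod p)) (f : U →+ (Fin 2 → ZMod p)), Function.Surjective f ∧
      ∀ x : U, ∃ (ha : ρ a *ᵥ (x : Fin n → ZMod p) ∈ U) (hd : ρ d *ᵥ (x : Fin n → ZMod p) ∈ U),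
        f ⟨_, ha⟩ = !![1, 1; 0, 1] *ᵥ f x ∧
          f ⟨_, hd⟩ = !![(u : ZMod p), 0; 0, ((u⁻¹ : (ZMod p)ˣ) : ZMod p)] *ᵥ f x

/-- generation by a Sylow subgroup and the elements of order prime to `p` -/
theorem eq_top_of_sylow_of_coprime {G : Type*} [Group G] [Finite G] (P : Sylow p G) (W : Subgroup G)
    (hP : (P : Subgroup G) ≤ W) (h : ∀ g : G, (orderOf g).Coprime p → g ∈ W) : W = ⊤ := by
  have hN : (Subgroup.closure {g : G | (orderOf g).Coprime p}).Normal := by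
    constructor
    intro x hx g
    have hle : Subgroup.closure {g : G | (orderOf g).Coprime p} ≤
        (Subgroup.closure {g : G | (orderOf g).Coprime p}).comap (MulAut.conj g).toMonoidHom := by
      refine (Subgroup.closure_le _).mpr fun y hy => Subgroup.subset_closure ?_
      show (orderOf (MulAut.conj g y)).Coprime p
      rw [MulEquiv.orderOf_eq]
      exact hy
    exact hle hx
  set N := Subgroup.closure {g : G | (orderOf g).Coprime p}
  haveI := hN
  have hq : IsPGroup p (G ⧸ N) := by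
    intro q
    obtain ⟨g, rfl⟩ := QuotientGroup.mk_surjective q
    obtain ⟨a, b, -, -, hab, ⟨j, hj⟩, hcop⟩ := Cfsg.Lib.Transfer.exists_pPart p g
    refine ⟨j, ?_⟩
    rw [← hab, QuotientGroup.mk_mul, (QuotientGroup.eq_one_iff b).mpr (Subgroup.subset_closure hcop),
      mul_one, ← QuotientGroup.mk_pow, ← hj, pow_orderOf_eq_one, QuotientGroup.mk_one]
  refine eq_top_iff.mpr ?_
  obtain ⟨k, hk⟩ := IsPGroup.iff_card.mp hq
  rw [← Cfsg.Lib.Transfer.sup_sylow_eq_top (N := N) (k := k) (by rw [Subgroup.index_eq_card, hk]) P]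
  exact sup_le ((Subgroup.closure_le _).mpr h) hP

local notation "KK" => AlgebraicClosure (ZMod p)

set_option maxHeartbeats 1000000 in
/-- a plane quotient over the algebraic closure of the cyclic space of a vector -/
theorem exists_plane_quotient {Xc : Type*} [Group Xc] [Finite Xc] (ρ' : Xc →* Matrix (Fin n) (Fin n) KK)
    {a' b' : Xc} (hgen : Subgroup.closure ({a', b'} : Set Xc) = ⊤)
    (hAA : (ρ' a' - 1) * (ρ' a' - 1) = 0) (hBB : (ρ' b' - 1) * (ρ' b' - 1) = 0)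
    (w' : Fin n → KK) (hAw : (ρ' a' - 1) *ᵥ w' = 0)
    (hnil : ∀ N : ℕ, ((ρ' a' - 1) * (ρ' b' - 1)) ^ N *ᵥ w' ≠ 0) :
    ∃ (W : Submodule KK (Fin n → KK)) (hwW : w' ∈ W) (q : W →+ (Fin 2 → KK))
      (ψ : Xc →* Matrix.SpecialLinearGroup (Fin 2) KK) (μ c : KK), μ ≠ 0 ∧ c ≠ 0 ∧ q ⟨w', hwW⟩ = ![c, 0] ∧
      (∀ g : Xc, ∀ x : W, ∃ h : ρ' g *ᵥ (x : Fin n → KK) ∈ W, q ⟨_, h⟩ = (ψ g).1 *ᵥ q x) ∧
      (ψ a').1 = !![1, μ; 0, 1] ∧ (ψ b').1 = !![1, 0; 1, 1] := by
  classical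
  set A := ρ' a' - 1 with hA
  set B := ρ' b' - 1 with hB
  have hρa : ∀ x, ρ' a' *ᵥ x = x + A *ᵥ x := fun x => by rw [hA, sub_mulVec, one_mulVec]; abel
  have hρb : ∀ x, ρ' b' *ᵥ x = x + B *ᵥ x := fun x => by rw [hB, sub_mulVec, one_mulVec]; abel
  -- an eigenfunctional on the cyclic space
  let WA : Submodule KK (Fin n → KK) := Submodule.span KK (Set.range fun i : ℕ => (A * B) ^ i *ᵥ w')
  have hwWA : w' ∈ WA := Submodule.subset_span ⟨0, by simp⟩
  have hMWA : ∀ x ∈ WA, (A * B) *ᵥ x ∈ WA := by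
    intro x hx
    refine Submodule.span_induction ?_ ?_ ?_ ?_ hx
    · rintro _ ⟨i, rfl⟩
      refine Submodule.subset_span ⟨i + 1, ?_⟩
      simp only [mulVec_mulVec, pow_succ']
    · rw [mulVec_zero]; exact Submodule.zero_mem _
    · intro x y _ _ hx hy; rw [mulVec_add]; exact Submodule.add_mem _ hx hy
    · intro c x _ hx; rw [mulVec_smul]; exact Submodule.smul_mem _ c hx
  have hAWA : ∀ x ∈ WA, A *ᵥ x = 0 := by
    intro x hx
    refine Submodule.span_induction ?_ ?_ ?_ ?_ hx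
    · rintro _ ⟨i, rfl⟩
      rcases i with _ | i
      · show A *ᵥ ((A * B) ^ 0 *ᵥ w') = 0
        rw [pow_zero, one_mulVec]; exact hAw
      · show A *ᵥ ((A * B) ^ (i + 1) *ᵥ w') = 0
        rw [mulVec_mulVec, pow_succ', ← mul_assoc, ← mul_assoc, hAA, zero_mul, zero_mul, zero_mulVec]
    · rw [mulVec_zero]
    · intro x y _ _ hx hy; rw [mulVec_add, hx, hy, add_zero]
    · intro c x _ hx; rw [mulVec_smul, hx, smul_zero]
  let M₀ : Module.End KK WA := (Matrix.mulVecLin (A * B)).restrict hMWA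
  have hM₀ : ∀ (i : ℕ) (x : WA), (((M₀ ^ i) x : WA) : Fin n → KK) = (A * B) ^ i *ᵥ (x : Fin n → KK) := by
    intro i
    induction i with
    | zero => intro x; simp
    | succ i ih =>
      intro x
      rw [pow_succ, Module.End.mul_apply, ih, pow_succ, ← mulVec_mulVec]
      rfl
  obtain ⟨μ, φ, hμ, hφ, hφw⟩ : ∃ (μ : KK) (φ : WA →ₗ[KK] KK), μ ≠ 0 ∧ (∀ x, φ (M₀ x) = μ * φ x) ∧
      φ ⟨w', hwWA⟩ ≠ 0 := by
    obtain ⟨N, hN⟩ := Filter.eventually_atTop.mp (LinearMap.eventually_isCompl_ker_pow_range_pow M₀)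
    have hc := hN (N + 1) (Nat.le_succ N)
    set Z := LinearMap.range (M₀ ^ (N + 1))
    have hZ : ∀ x ∈ Z, M₀ x ∈ Z := by
      rintro _ ⟨y, rfl⟩
      exact ⟨M₀ y, by rw [← Module.End.mul_apply, ← Module.End.mul_apply, ← pow_succ, ← pow_succ']⟩
    haveI : Nontrivial Z := by
      refine ⟨⟨⟨_, LinearMap.mem_range_self _ ⟨w', hwWA⟩⟩, 0, fun e => hnil (N + 1) ?_⟩⟩
      have := congrArg (fun y : Z => ((y : WA) : Fin n → KK)) e
      simpa [hM₀] using this
    obtain ⟨μ, hμe⟩ := Module.End.exists_eigenvalue (K := KK) (V := Z) (M₀.restrict hZ)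
    obtain ⟨y, hy⟩ := hμe.exists_hasEigenvector
    have hye : M₀ (y : WA) = μ • (y : WA) := congrArg Subtype.val hy.apply_eq_smul
    have hy0 : (y : WA) ≠ 0 := fun e => hy.2 (Subtype.ext e)
    have hμ : μ ≠ 0 := by
      intro e
      rw [e, zero_smul] at hye
      refine hy0 ((Submodule.disjoint_def.mp hc.disjoint) (y : WA) ?_ y.2)
      rw [LinearMap.mem_ker, pow_succ, Module.End.mul_apply, hye, map_zero]
    have hlt : LinearMap.range (M₀ - μ • 1) < ⊤ := by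
      refine lt_top_iff_ne_top.mpr fun e => hy0 ?_
      have hinj := LinearMap.injective_iff_surjective.mpr (LinearMap.range_eq_top.mp e)
      refine hinj ?_
      simp [hye]
    obtain ⟨φ, hφ0, hφ⟩ := Submodule.exists_dual_map_eq_bot_of_lt_top hlt inferInstance
    have hφM : ∀ x, φ (M₀ x) = μ * φ x := fun x => by
      have h1 : φ ((M₀ - μ • 1) x) = 0 := by
        have := Submodule.mem_map_of_mem (f := φ) (LinearMap.mem_range_self (M₀ - μ • 1) x)
        rw [hφ, Submodule.mem_bot] at this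
        exact this
      rwa [LinearMap.sub_apply, LinearMap.smul_apply, Module.End.one_apply, map_sub, map_smul, smul_eq_mul,
        sub_eq_zero] at h1
    refine ⟨μ, φ, hμ, hφM, fun h0 => hφ0 (LinearMap.ext fun x => ?_)⟩
    obtain ⟨x, hx⟩ := x
    show φ ⟨x, hx⟩ = 0
    refine Submodule.span_induction (p := fun x hx => φ ⟨x, hx⟩ = 0) ?_ ?_ ?_ ?_ hx
    · rintro _ ⟨i, rfl⟩
      have e : (⟨(A * B) ^ i *ᵥ w', Submodule.subset_span ⟨i, rfl⟩⟩ : WA) = (M₀ ^ i) ⟨w', hwWA⟩ :=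
        Subtype.ext (hM₀ i ⟨w', hwWA⟩).symm
      show φ ⟨(A * B) ^ i *ᵥ w', _⟩ = 0
      rw [e]
      clear e
      induction i with
      | zero => exact h0
      | succ i ih => rw [pow_succ', Module.End.mul_apply, hφM, ih, mul_zero]
    · exact map_zero φ
    · intro x y hx hy e1 e2
      rw [show (⟨x + y, Submodule.add_mem _ hx hy⟩ : WA) = ⟨x, hx⟩ + ⟨y, hy⟩ from rfl, map_add, e1, e2, add_zero]
    · intro c x hx e1
      rw [show (⟨c • x, Submodule.smul_mem _ c hx⟩ : WA) = c • ⟨x, hx⟩ from rfl, map_smul, e1, smul_zero]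
  -- the invariant space and its plane quotient
  let W : Submodule KK (Fin n → KK) := WA ⊔ WA.map (Matrix.mulVecLin B)
  have hWA : ∀ x ∈ W, A *ᵥ x ∈ WA ∧ (A * B) *ᵥ x ∈ WA := by
    intro x hx
    obtain ⟨y, hy, _, ⟨y', hy', rfl⟩, rfl⟩ := Submodule.mem_sup.mp hx
    rw [Matrix.mulVecLin_apply, mulVec_add, mulVec_add, hAWA y hy, zero_add, mulVec_mulVec, mulVec_mulVec,
      mul_assoc, hBB, mul_zero, zero_mulVec, add_zero]
    exact ⟨hMWA y' hy', hMWA y hy⟩
  have hAW : ∀ x ∈ W, A *ᵥ x ∈ W := fun x hx => Submodule.mem_sup_left (hWA x hx).1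
  have hBW : ∀ x ∈ W, B *ᵥ x ∈ W := by
    intro x hx
    obtain ⟨y, hy, _, ⟨y', hy', rfl⟩, rfl⟩ := Submodule.mem_sup.mp hx
    rw [Matrix.mulVecLin_apply, mulVec_add, mulVec_mulVec, hBB, zero_mulVec, add_zero]
    exact Submodule.mem_sup_right ⟨y, hy, rfl⟩
  let L₁ : W →ₗ[KK] WA :=
    ((Matrix.mulVecLin (A * B)).comp W.subtype).codRestrict WA fun x => (hWA x x.2).2
  let L₂ : W →ₗ[KK] WA :=
    ((Matrix.mulVecLin A).comp W.subtype).codRestrict WA fun x => (hWA x x.2).1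
  let q : W →+ (Fin 2 → KK) :=
    AddMonoidHom.mk' (fun x => ![μ⁻¹ * φ (L₁ x), μ⁻¹ * φ (L₂ x)]) fun x y => by
      funext i
      fin_cases i <;> simp [mul_add]
  have hqA : ∀ x : W, q ⟨_, hAW x x.2⟩ = ![μ * q x 1, 0] := by
    intro x
    have h1 := (hWA x x.2).1
    funext i
    fin_cases i
    · show μ⁻¹ * φ ⟨(A * B) *ᵥ (A *ᵥ (x : Fin n → KK)), _⟩ = μ * (μ⁻¹ * φ ⟨_, h1⟩)
      rw [show (⟨(A * B) *ᵥ (A *ᵥ (x : Fin n → KK)), (hWA _ (hAW x x.2)).2⟩ : WA) = M₀ ⟨_, h1⟩ from rfl, hφ]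
      field_simp
    · show μ⁻¹ * φ ⟨A *ᵥ (A *ᵥ (x : Fin n → KK)), _⟩ = 0
      rw [show (⟨A *ᵥ (A *ᵥ (x : Fin n → KK)), (hWA _ (hAW x x.2)).1⟩ : WA) = 0 from
        Subtype.ext (show A *ᵥ (A *ᵥ (x : Fin n → KK)) = 0 by rw [mulVec_mulVec, hAA, zero_mulVec]), map_zero, mul_zero]
  have hqB : ∀ x : W, q ⟨_, hBW x x.2⟩ = ![0, q x 0] := by
    intro x
    funext i
    fin_cases i
    · show μ⁻¹ * φ ⟨(A * B) *ᵥ (B *ᵥ (x : Fin n → KK)), _⟩ = 0
      rw [show (⟨(A * B) *ᵥ (B *ᵥ (x : Fin n → KK)), (hWA _ (hBW x x.2)).2⟩ : WA) = 0 from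
        Subtype.ext (show (A * B) *ᵥ (B *ᵥ (x : Fin n → KK)) = 0 by
          rw [mulVec_mulVec, mul_assoc, hBB, mul_zero, zero_mulVec]), map_zero, mul_zero]
    · show μ⁻¹ * φ ⟨A *ᵥ (B *ᵥ (x : Fin n → KK)), _⟩ = μ⁻¹ * φ ⟨(A * B) *ᵥ (x : Fin n → KK), _⟩
      congr 2
      exact Subtype.ext (show A *ᵥ (B *ᵥ (x : Fin n → KK)) = (A * B) *ᵥ (x : Fin n → KK) from mulVec_mulVec _ _ _)
  let wW : W := ⟨w', Submodule.mem_sup_left hwWA⟩
  set c := φ ⟨w', hwWA⟩ with hc
  have hqw : q wW = ![c, 0] := by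
    funext i
    fin_cases i
    · show μ⁻¹ * φ ⟨(A * B) *ᵥ w', _⟩ = c
      rw [show (⟨(A * B) *ᵥ w', (hWA _ wW.2).2⟩ : WA) = M₀ ⟨w', hwWA⟩ from rfl, hφ, ← hc]
      field_simp
    · show μ⁻¹ * φ ⟨A *ᵥ w', _⟩ = 0
      rw [show (⟨A *ᵥ w', (hWA _ wW.2).1⟩ : WA) = 0 from Subtype.ext hAw, map_zero, mul_zero]
  have hqBw : q ⟨_, hBW wW wW.2⟩ = ![0, c] := by rw [hqB, hqw]; rfl
  let Rel : Xc → Matrix.SpecialLinearGroup (Fin 2) KK → Prop := fun g M =>
    ∀ x : W, ∃ h : ρ' g *ᵥ (x : Fin n → KK) ∈ W, q ⟨_, h⟩ = M.1 *ᵥ q x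
  have huniq : ∀ g M M', Rel g M → Rel g M' → M = M' := by
    intro g M M' h h'
    obtain ⟨_, e1⟩ := h wW
    obtain ⟨_, e2⟩ := h' wW
    obtain ⟨_, e3⟩ := h ⟨_, hBW wW wW.2⟩
    obtain ⟨_, e4⟩ := h' ⟨_, hBW wW wW.2⟩
    have f1 := e1.symm.trans e2
    have f2 := e3.symm.trans e4
    rw [hqw] at f1
    rw [hqBw] at f2
    have g1 := congrFun f1 0
    have g2 := congrFun f1 1
    have g3 := congrFun f2 0
    have g4 := congrFun f2 1
    simp [SLTwoSub.mulVec_two] at g1 g2 g3 g4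
    exact SLTwoSub.ext_entries (g1.resolve_right hφw) (g3.resolve_right hφw) (g2.resolve_right hφw)
      (g4.resolve_right hφw)
  have hRmul : ∀ g h M N, Rel g M → Rel h N → Rel (g * h) (M * N) := by
    intro g h M N hg hh x
    obtain ⟨h1, e1⟩ := hh x
    obtain ⟨h2, e2⟩ := hg ⟨_, h1⟩
    have e : ρ' (g * h) *ᵥ (x : Fin n → KK) = ρ' g *ᵥ (ρ' h *ᵥ (x : Fin n → KK)) := by
      rw [mulVec_mulVec, ← map_mul]
    refine ⟨e ▸ h2, ?_⟩
    rw [Matrix.SpecialLinearGroup.coe_mul, ← mulVec_mulVec, ← e1, ← e2]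
    congr 1
    exact Subtype.ext e
  have hall : ∀ g : Xc, ∃ M, Rel g M := by
    intro g
    have hg : g ∈ Subgroup.closure ({a', b'} : Set Xc) := hgen.symm ▸ Subgroup.mem_top g
    rw [← Subgroup.mem_toSubmonoid, Subgroup.closure_toSubmonoid_of_finite] at hg
    induction hg using Submonoid.closure_induction with
    | mem x hx =>
      rcases hx with hx | hx
      · rw [hx]
        refine ⟨⟨!![1, μ; 0, 1], by simp [det_fin_two]⟩, fun x => ?_⟩
        refine ⟨by rw [hρa]; exact W.add_mem x.2 (hAW x x.2), ?_⟩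
        rw [show (⟨ρ' a' *ᵥ (x : Fin n → KK), _⟩ : W) = x + ⟨_, hAW x x.2⟩ from Subtype.ext (hρa x),
          map_add, hqA]
        funext i
        fin_cases i <;> simp [SLTwoSub.mulVec_two] <;> ring
      · rw [Set.mem_singleton_iff.mp hx]
        refine ⟨⟨!![1, 0; 1, 1], by simp [det_fin_two]⟩, fun x => ?_⟩
        refine ⟨by rw [hρb]; exact W.add_mem x.2 (hBW x x.2), ?_⟩
        rw [show (⟨ρ' b' *ᵥ (x : Fin n → KK), _⟩ : W) = x + ⟨_, hBW x x.2⟩ from Subtype.ext (hρb x),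
          map_add, hqB]
        funext i
        fin_cases i <;> simp [SLTwoSub.mulVec_two] <;> ring
    | one =>
      refine ⟨1, fun x => ⟨by simpa using x.2, ?_⟩⟩
      simp
    | mul g h _ _ hg hh =>
      obtain ⟨M, hM⟩ := hg
      obtain ⟨N, hN⟩ := hh
      exact ⟨M * N, hRmul _ _ _ _ hM hN⟩
  choose ψ₀ hψ using hall
  let ψ : Xc →* Matrix.SpecialLinearGroup (Fin 2) KK :=
    MonoidHom.mk' ψ₀ fun g h => huniq _ _ _ (hψ _) (hRmul _ _ _ _ (hψ g) (hψ h))
  have hψa : (ψ a').1 = !![1, μ; 0, 1] := by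
    have hRa : Rel a' ⟨!![1, μ; 0, 1], by simp [det_fin_two]⟩ := fun x => by
      refine ⟨by rw [hρa]; exact W.add_mem x.2 (hAW x x.2), ?_⟩
      rw [show (⟨ρ' a' *ᵥ (x : Fin n → KK), _⟩ : W) = x + ⟨_, hAW x x.2⟩ from Subtype.ext (hρa x),
        map_add, hqA]
      funext i
      fin_cases i <;> simp [SLTwoSub.mulVec_two] <;> ring
    exact congrArg Subtype.val (huniq a' _ _ (hψ a') hRa)
  have hψb : (ψ b').1 = !![1, 0; 1, 1] := by
    have hRb : Rel b' ⟨!![1, 0; 1, 1], by simp [det_fin_two]⟩ := fun x => by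
      refine ⟨by rw [hρb]; exact W.add_mem x.2 (hBW x x.2), ?_⟩
      rw [show (⟨ρ' b' *ᵥ (x : Fin n → KK), _⟩ : W) = x + ⟨_, hBW x x.2⟩ from Subtype.ext (hρb x),
        map_add, hqB]
      funext i
      fin_cases i <;> simp [SLTwoSub.mulVec_two] <;> ring
    exact congrArg Subtype.val (huniq b' _ _ (hψ b') hRb)
  exact ⟨W, Submodule.mem_sup_left hwWA, q, ψ, μ, c, hμ, hφw, hqw, hψ, hψa, hψb⟩

set_option maxHeartbeats 1000000 in
/-- a torus element normalizing a Sylow subgroup -/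
theorem exists_torus (hp : p ≠ 2) {X : Type*} [Group X] [Finite X] (ψ : X →* Matrix.SpecialLinearGroup (Fin 2) KK)
    {a' b' : X} {μ : KK} (hμ : μ ≠ 0) (hψa : (ψ a').1 = !![1, μ; 0, 1]) (hψb : (ψ b').1 = !![1, 0; 1, 1])
    (P : Sylow p X) (haP : a' ∈ (P : Subgroup X)) :
    ∃ (u : (ZMod p)ˣ) (y : X), (∀ x : (ZMod p)ˣ, x ∈ Subgroup.zpowers u) ∧
      y ∈ Subgroup.normalizer ((P : Subgroup X) : Set X) ∧ (ψ y).1 1 0 = 0 ∧
      (ψ y).1 0 0 = algebraMap (ZMod p) KK (u : ZMod p) ∧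
      (ψ y).1 1 1 = (algebraMap (ZMod p) KK (u : ZMod p))⁻¹ ∧
      ((algebraMap (ZMod p) KK (u : ZMod p))⁻¹ = algebraMap (ZMod p) KK (u : ZMod p) → (ψ y).1 0 1 = 0) := by
  classical
  let φk := algebraMap (ZMod p) KK
  haveI : CharP KK p := charP_of_injective_algebraMap φk.injective p
  -- `p`-elements
  have hP2 : ∀ t ∈ (P : Subgroup X), (ψ t).1 1 0 = 0 ∧ (ψ t).1 0 0 = 1 ∧ (ψ t).1 1 1 = 1 := by
    intro t ht
    have htr : ∀ s ∈ (P : Subgroup X), SLTwoSub.tr (ψ s) = 2 := fun s hs => by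
      obtain ⟨j, hj⟩ := P.2 ⟨s, hs⟩
      exact SLTwoSub.tr_of_pow (p := p) (k := j)
        (by rw [← map_pow, show s ^ p ^ j = 1 from congrArg Subtype.val hj, map_one])
    have h1 := htr t ht
    have h2 := htr _ ((P : Subgroup X).mul_mem ht haP)
    rw [map_mul] at h2
    unfold SLTwoSub.tr at h1 h2
    rw [SLTwoSub.mul_entries, SLTwoSub.mul_entries, hψa] at h2
    simp at h2
    have h10 : (ψ t).1 1 0 = 0 := by
      have : (ψ t).1 1 0 * μ = 0 := by linear_combination h2 - h1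
      exact (mul_eq_zero.mp this).resolve_right hμ
    have hd := SLTwoSub.det_eq (ψ t)
    rw [h10, mul_zero, sub_zero] at hd
    have : ((ψ t).1 0 0 - 1) ^ 2 = 0 := by linear_combination (ψ t).1 0 0 * h1 - hd
    have h00 : (ψ t).1 0 0 = 1 := sub_eq_zero.mp (sq_eq_zero_iff.mp this)
    exact ⟨h10, h00, by linear_combination h1 - h00⟩
  haveI : Finite ψ.range := Finite.of_surjective _ ψ.rangeRestrict_surjective
  have hmany : 1 < Nat.card (Sylow p ψ.range) := by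
    by_contra hlt
    haveI : Subsingleton (Sylow p ψ.range) := Finite.card_le_one_iff_subsingleton.mp (not_lt.mp hlt)
    obtain ⟨P'⟩ : Nonempty (Sylow p ψ.range) := inferInstance
    have hmem : ∀ y : ψ.range, SLTwoSub.tr (y : Matrix.SpecialLinearGroup (Fin 2) KK) = 2 →
        y ∈ (P' : Subgroup ψ.range) := by
      intro y hy
      have h1 : y ^ p ^ 1 = 1 := Subtype.ext (by
        rw [SubgroupClass.coe_pow, pow_one]; exact SLTwoSub.pow_prime_of_tr hy)
      have hz : IsPGroup p (Subgroup.zpowers y) := IsPGroup.of_card (n := (Nat.log p (orderOf y))) (by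
        obtain ⟨i, -, hi⟩ := (Nat.dvd_prime_pow Fact.out).mp (orderOf_dvd_of_pow_eq_one h1)
        rw [Nat.card_zpowers, hi, Nat.log_pow (Fact.out : p.Prime).one_lt])
      obtain ⟨Q', hQ⟩ := hz.exists_le_sylow
      exact Subsingleton.elim P' Q' ▸ hQ (Subgroup.mem_zpowers y)
    have hua := hmem ⟨ψ a', a', rfl⟩ (by unfold SLTwoSub.tr; rw [hψa]; simp; norm_num)
    have hub := hmem ⟨ψ b', b', rfl⟩ (by unfold SLTwoSub.tr; rw [hψb]; simp; norm_num)
    obtain ⟨j, hj⟩ := P'.2 ⟨_, (P' : Subgroup ψ.range).mul_mem hua hub⟩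
    have h2 := SLTwoSub.tr_of_pow (p := p) (k := j)
      (congrArg (fun z : (P' : Subgroup ψ.range) => ((z : ψ.range) : Matrix.SpecialLinearGroup (Fin 2) KK)) hj)
    have e : SLTwoSub.tr (ψ a' * ψ b') = 2 + μ := by
      unfold SLTwoSub.tr
      rw [SLTwoSub.mul_entries, SLTwoSub.mul_entries, hψa, hψb]
      simp; ring
    exact hμ (by
      have h3 : SLTwoSub.tr (ψ a' * ψ b') = 2 := h2
      rw [e] at h3
      linear_combination h3)
  obtain ⟨Bm, hBm, hconj⟩ := SLTwoSub.exists_copy_basis hp _ ψ.range rfl hmany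
  have hcast : ∀ x : ZMod p, (ZMod.castHom dvd_rfl KK : ZMod p →+* KK) x = φk x :=
    fun x => congrArg (fun f : ZMod p →+* KK => f x) (Subsingleton.elim _ _)
  obtain ⟨u, hu⟩ := IsCyclic.exists_generator (α := (ZMod p)ˣ)
  set lam := φk (u : ZMod p)
  have hlam : lam ≠ 0 := fun e => u.ne_zero (φk.injective (e.trans (map_zero φk).symm))
  -- a unipotent element and a torus element of the copy
  obtain ⟨_, ⟨yu, rfl⟩, hyu⟩ := hconj ⟨!![1, 1; 0, 1], by simp [det_fin_two]⟩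
  obtain ⟨_, ⟨yd, rfl⟩, hyd⟩ := hconj ⟨!![(u : ZMod p), 0; 0, ((u⁻¹ : (ZMod p)ˣ) : ZMod p)], by
    rw [det_fin_two_of, mul_zero, sub_zero, ← Units.val_mul, mul_inv_cancel, Units.val_one]⟩
  have hdet : Bm 0 0 * Bm 1 1 - Bm 0 1 * Bm 1 0 ≠ 0 := by
    rw [det_fin_two, isUnit_iff_ne_zero] at hBm; exact hBm
  -- a `p`-element with the image of `yu`
  obtain ⟨z, hzp, hz⟩ : ∃ z : X, IsPGroup p (Subgroup.zpowers z) ∧ ψ z = ψ yu := by
    obtain ⟨z, y', hzy1, hzy2, hzy, ⟨j, hj⟩, hcop⟩ := Cfsg.Lib.Transfer.exists_pPart p yu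
    refine ⟨z, IsPGroup.of_card (n := j) (by rw [Nat.card_zpowers, hj]), ?_⟩
    have hp1 : ψ yu ^ p = 1 := by
      apply SLTwoSub.pow_prime_of_tr
      have e : ∀ i j, (ψ yu).1 i 0 * Bm 0 j + (ψ yu).1 i 1 * Bm 1 j =
          (Bm * (!![1, 1; 0, 1] : Matrix (Fin 2) (Fin 2) KK)) i j := fun i j => by
        have := congrFun (congrFun hyu i) j
        simp only [Matrix.mul_apply, Fin.sum_univ_two, Matrix.map_apply, hcast] at this
        rw [this]
        fin_cases j <;> simp [Matrix.mul_apply]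
      have e00 := e 0 0
      have e01 := e 0 1
      have e10 := e 1 0
      have e11 := e 1 1
      simp [Matrix.mul_apply] at e00 e01 e10 e11
      refine mul_right_cancel₀ hdet ?_
      unfold SLTwoSub.tr
      linear_combination Bm 1 1 * e00 - Bm 1 0 * e01 + Bm 0 0 * e11 - Bm 0 1 * e10
    have hy1 : ψ y' = 1 := by
      refine orderOf_eq_one_iff.mp (Nat.eq_one_of_dvd_coprimes (hcop.pow_right (j + 1)) (orderOf_map_dvd ψ y')
        (orderOf_dvd_of_pow_eq_one ?_))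
      have hcm : Commute (ψ z) (ψ y') := by
        have h3 : Commute z y' := by
          obtain ⟨i, rfl⟩ := Subgroup.mem_zpowers_iff.mp hzy1
          obtain ⟨l, rfl⟩ := Subgroup.mem_zpowers_iff.mp hzy2
          exact Commute.zpow_zpow (Commute.refl yu) i l
        exact h3.map ψ
      have h6 : ψ yu ^ p ^ (j + 1) = 1 := by rw [pow_succ', pow_mul, hp1, one_pow]
      have hz1 : ψ z ^ p ^ (j + 1) = 1 := by
        rw [pow_succ, pow_mul, ← map_pow, ← hj, pow_orderOf_eq_one, map_one, one_pow]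
      rwa [← hzy, map_mul, hcm.mul_pow, hz1, one_mul] at h6
    rw [← hzy, map_mul, hy1, mul_one]
  obtain ⟨P₁, hP₁⟩ := hzp.exists_le_sylow
  obtain ⟨g, hg⟩ := MulAction.exists_smul_eq X P₁ P
  have hgz : g * z * g⁻¹ ∈ (P : Subgroup X) := by
    rw [← hg, Cfsg.Lib.Transfer.sylow_smul_coe]
    exact ⟨z, hP₁ (Subgroup.mem_zpowers z), rfl⟩
  set Nm := (ψ g).1 * Bm with hNm
  have hconjg : ∀ (y : X) (D : Matrix (Fin 2) (Fin 2) KK), (ψ y).1 * Bm = Bm * D →
      (ψ (g * y * g⁻¹)).1 * Nm = Nm * D := by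
    intro y D h
    rw [hNm, ← mul_assoc, ← Matrix.SpecialLinearGroup.coe_mul, ← map_mul,
      show g * y * g⁻¹ * g = g * y by group, map_mul, Matrix.SpecialLinearGroup.coe_mul, mul_assoc, h, mul_assoc]
  have hyu' : (ψ z).1 * Bm = Bm * !![1, 1; 0, 1] := by
    rw [hz, hyu]
    congr 1
    ext i j
    fin_cases i <;> fin_cases j <;> simp [hcast]
  have hyd' : (ψ yd).1 * Bm = Bm * !![lam, 0; 0, lam⁻¹] := by
    rw [hyd]
    congr 1
    ext i j
    fin_cases i <;> fin_cases j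
    · exact hcast _
    · exact (hcast _).trans (map_zero φk)
    · exact (hcast _).trans (map_zero φk)
    · refine (hcast _).trans ?_
      show φk ((u⁻¹ : (ZMod p)ˣ) : ZMod p) = lam⁻¹
      rw [Units.val_inv_eq_inv_val, map_inv₀]
  have hNdet : Nm 0 0 * Nm 1 1 - Nm 0 1 * Nm 1 0 ≠ 0 := by
    have : Nm.det = Bm.det := by rw [hNm, det_mul, (ψ g).2, one_mul]
    rw [← det_fin_two, this, det_fin_two]
    exact hdet
  have hN10 : Nm 1 0 = 0 := by
    have e := hconjg z _ hyu'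
    obtain ⟨h10, h00, h11⟩ := hP2 _ hgz
    have e1 := congrFun (congrFun e 1) 1
    rw [Matrix.mul_apply, Matrix.mul_apply, Fin.sum_univ_two, Fin.sum_univ_two, h10, h11] at e1
    simpa using e1.symm
  have hN00 : Nm 0 0 ≠ 0 := fun e => hNdet (by rw [e, hN10]; ring)
  set y₁ := g * yd * g⁻¹
  have hy₁ : (ψ y₁).1 1 0 = 0 ∧ (ψ y₁).1 0 0 = lam := by
    have e := hconjg yd _ hyd'
    have e0 := congrFun (congrFun e 0) 0
    have e1 := congrFun (congrFun e 1) 0
    rw [Matrix.mul_apply, Matrix.mul_apply, Fin.sum_univ_two, Fin.sum_univ_two, hN10] at e0 e1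
    generalize (ψ y₁).1 = M at e0 e1 ⊢
    simp at e0 e1
    refine ⟨e1.resolve_right hN00, mul_right_cancel₀ hN00 ?_⟩
    rw [e0, mul_comm]
  -- Frattini in the stabilizer of the line
  let P₁' : Subgroup X :=
    { carrier := {x | (ψ x).1 1 0 = 0}
      one_mem' := by simp
      mul_mem' := fun {x y} hx hy => by
        simp only [Set.mem_setOf_eq] at hx hy ⊢
        rw [map_mul, SLTwoSub.mul_entries, hx, hy]; ring
      inv_mem' := fun {x} hx => by
        simp only [Set.mem_setOf_eq] at hx ⊢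
        rw [map_inv, (SLTwoSub.inv_entries _).2.2.1, hx, neg_zero] }
  let χ : P₁' →* KK :=
    { toFun := fun x => (ψ x).1 0 0
      map_one' := by simp
      map_mul' := fun x y => by
        rw [Subgroup.coe_mul, map_mul, SLTwoSub.mul_entries, show (ψ (y : X)).1 1 0 = 0 from y.2]; ring }
  have hPP : (P : Subgroup X) ≤ P₁' := fun t ht => (hP2 t ht).1
  let P₁s : Sylow p P₁' := P.subtype hPP
  have hPker : (P₁s : Subgroup P₁') ≤ χ.ker := fun t ht => (hP2 _ ht).2.1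
  let P₂ : Sylow p χ.ker := P₁s.subtype hPker
  have hfr := Sylow.normalizer_sup_eq_top P₂
  have hmap : (P₂ : Subgroup χ.ker).map χ.ker.subtype = (P₁s : Subgroup P₁') := by
    rw [Sylow.coe_subtype]
    exact Subgroup.map_subgroupOf_eq_of_le hPker
  rw [hmap] at hfr
  obtain ⟨y₂, hy₂, r, hr, hyr⟩ := Subgroup.mem_sup_of_normal_right.mp
    (hfr.ge (Subgroup.mem_top (⟨y₁, hy₁.1⟩ : P₁')))
  have hy₂χ : χ y₂ = lam := by
    rw [← hy₁.2, show (ψ y₁).1 0 0 = χ ⟨y₁, hy₁.1⟩ from rfl, ← hyr, map_mul, MonoidHom.mem_ker.mp hr, mul_one]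
  obtain ⟨t, y, -, hy, hty, ⟨j, hj⟩, hycop⟩ := Cfsg.Lib.Transfer.exists_pPart p y₂
  have hyχ : χ y = lam := by
    have ht1 : χ t = 1 := by
      have h1 : (χ t) ^ p ^ j = 1 := by rw [← map_pow, ← hj, pow_orderOf_eq_one, map_one]
      have h2 : (χ t - 1) ^ p ^ j = 0 := by rw [sub_pow_char_pow, h1, one_pow, sub_self]
      exact sub_eq_zero.mp (pow_eq_zero_iff (pow_ne_zero _ (Fact.out : p.Prime).ne_zero) |>.mp h2)
    rw [← hy₂χ, ← hty, map_mul, ht1, one_mul]
  have hyn : y ∈ Subgroup.normalizer ((P₁s : Subgroup P₁') : Set P₁') :=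
    (Subgroup.zpowers_le.mpr hy₂) hy
  have hyN : (y : X) ∈ Subgroup.normalizer ((P : Subgroup X) : Set X) := by
    refine Subgroup.mem_normalizer_iff.mpr fun s => ?_
    constructor
    · intro hs
      exact (Subgroup.mem_normalizer_iff.mp hyn ⟨s, hPP hs⟩).mp hs
    · intro hs
      have hs' : s ∈ P₁' := by
        have := P₁'.mul_mem (P₁'.mul_mem (P₁'.inv_mem y.2) (hPP hs)) y.2
        simpa [mul_assoc] using this
      exact (Subgroup.mem_normalizer_iff.mp hyn ⟨s, hs'⟩).mpr hs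
  set τ := (ψ (y : X)).1 0 1
  have hy10 : (ψ (y : X)).1 1 0 = 0 := y.2
  have hy00 : (ψ (y : X)).1 0 0 = lam := hyχ
  have hy11 : (ψ (y : X)).1 1 1 = lam⁻¹ := by
    have h := SLTwoSub.det_eq (ψ (y : X))
    rw [hy10, hy00, mul_zero, sub_zero] at h
    exact eq_inv_of_mul_eq_one_right h
  have hτ : lam⁻¹ = lam → τ = 0 := by
    intro he
    have key : ∀ i : ℕ, (ψ (y : X) ^ (i + 1)).1 1 0 = 0 ∧ (ψ (y : X) ^ (i + 1)).1 1 1 = lam ^ (i + 1) ∧
        (ψ (y : X) ^ (i + 1)).1 0 1 = (i + 1 : ℕ) * τ * lam ^ i := by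
      intro i
      induction i with
      | zero => simp [hy10, hy11, he, τ]
      | succ i ih =>
        obtain ⟨i1, i2, i3⟩ := ih
        rw [pow_succ' _ (i + 1), SLTwoSub.mul_entries, SLTwoSub.mul_entries, SLTwoSub.mul_entries,
          hy10, hy11, hy00, i1, i2, i3, he]
        refine ⟨by ring, by ring, ?_⟩
        push_cast
        ring
    have ho := (key (orderOf (y : X) - 1)).2.2
    rw [Nat.sub_add_cancel (orderOf_pos (y : X)), ← map_pow, pow_orderOf_eq_one, map_one] at ho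
    simp at ho
    rcases ho with (h | h) | h
    · exfalso
      have h7 : (orderOf (y : X)).Coprime p := by rw [Subgroup.orderOf_coe]; exact hycop
      rw [← Subgroup.orderOf_coe] at h
      exact ((Fact.out : p.Prime).coprime_iff_not_dvd.mp h7.symm) ((CharP.cast_eq_zero_iff KK p _).mp h)
    · exact h
    · exact absurd h.1 hlam
  exact ⟨u, y, hu, hyN, hy10, hy00, hy11, hτ⟩

set_option maxHeartbeats 1000000 in
theorem pair_data (hp : p ≠ 2) (ρ : Q →* Matrix (Fin n) (Fin n) (ZMod p)) (R : Subgroup Q)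
    (E : AddSubgroup (Fin n → ZMod p)) (hE : ∀ g ∈ R, ∀ x ∈ E, ρ g *ᵥ x ∈ E) {a b : Q}
    (ha : (ρ a - 1) * (ρ a - 1) = 0) (hb : (ρ b - 1) * (ρ b - 1) = 0) (haR : a ∈ R)
    (P : Sylow p ↥(Subgroup.closure ({a, b} : Set Q)))
    (haP : (⟨a, Subgroup.subset_closure (Set.mem_insert _ _)⟩ : ↥(Subgroup.closure ({a, b} : Set Q))) ∈
      (P : Subgroup ↥(Subgroup.closure ({a, b} : Set Q))))
    (hPR : ∀ d : ↥(Subgroup.closure ({a, b} : Set Q)),
      d ∈ Subgroup.normalizer ((P : Subgroup ↥(Subgroup.closure ({a, b} : Set Q))) : Set _) → (d : Q) ∈ R)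
    (w : Fin n → ZMod p) (hw : w ∈ E)
    (hPw : ∀ t ∈ (P : Subgroup ↥(Subgroup.closure ({a, b} : Set Q))), ρ (t : Q) *ᵥ w = w)
    (hbw : ρ b *ᵥ w ≠ w) : PairData ρ R E := by
  classical
  let X := Subgroup.closure ({a, b} : Set Q)
  let a' : X := ⟨a, Subgroup.subset_closure (Set.mem_insert _ _)⟩
  let b' : X := ⟨b, Subgroup.subset_closure (Set.mem_insert_of_mem _ rfl)⟩
  have hgen : Subgroup.closure ({a', b'} : Set X) = ⊤ := by
    refine eq_top_iff.mpr ((Subgroup.closure_closure_coe_preimage (k := ({a, b} : Set Q))).ge.trans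
        (Subgroup.closure_mono ?_))
    rintro ⟨z, hz⟩ hz'
    rcases hz' with hz'' | hz''
    · exact Or.inl (Subtype.ext hz'')
    · exact Or.inr (Subtype.ext hz'')
  let φk := algebraMap (ZMod p) KK
  haveI : CharP KK p := charP_of_injective_algebraMap φk.injective p
  let ρ' : Q →* Matrix (Fin n) (Fin n) KK := φk.mapMatrix.toMonoidHom.comp ρ
  let em : (Fin n → ZMod p) →+ (Fin n → KK) :=
    { toFun := fun x j => φk (x j)
      map_zero' := funext fun j => map_zero _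
      map_add' := fun x y => funext fun j => map_add _ _ _ }
  have hem : Function.Injective em := fun x y e => funext fun j => φk.injective (congrFun e j)
  have hmove : ∀ (g : Q) (x : Fin n → ZMod p), em (ρ g *ᵥ x) = ρ' g *ᵥ em x := by
    intro g x
    funext j
    show φk ((ρ g *ᵥ x) j) = _
    rw [RingHom.map_mulVec]
    rfl
  set A := ρ' a - 1 with hA
  set B := ρ' b - 1 with hB
  have hq : ∀ g, (ρ g - 1) * (ρ g - 1) = 0 → (ρ' g - 1) * (ρ' g - 1) = 0 := fun g h => by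
    show (φk.mapMatrix (ρ g) - 1) * (φk.mapMatrix (ρ g) - 1) = 0
    rw [← map_one φk.mapMatrix, ← map_sub, ← map_mul, h, map_zero]
  have hAA : A * A = 0 := hq a ha
  have hBB : B * B = 0 := hq b hb
  set w' := em w
  have hAw : A *ᵥ w' = 0 := by
    rw [hA, sub_mulVec, one_mulVec, ← hmove, show ρ a *ᵥ w = w from hPw a' haP, sub_self]
  -- the product is not nilpotent at `w`
  have hnil : ∀ N : ℕ, (A * B) ^ N *ᵥ w' ≠ 0 := by
    intro N hN
    let z : ℕ → (Fin n → KK) := fun j => (if j % 2 = 0 then (1 : Matrix _ _ KK) else B) *ᵥ ((A * B) ^ (j / 2) *ᵥ w')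
    have hz0 : ∀ i, z (2 * i) = (A * B) ^ i *ᵥ w' := fun i => by
      simp only [z, Nat.mul_mod_right, if_true, one_mulVec, Nat.mul_div_cancel_left i two_pos]
    have hz1 : ∀ i, z (2 * i + 1) = B *ᵥ ((A * B) ^ i *ᵥ w') := fun i => by
      simp only [z, show (2 * i + 1) % 2 = 1 by omega, show (2 * i + 1) / 2 = i by omega, one_ne_zero, if_false]
    let L : ℕ → Submodule KK (Fin n → KK) := fun j => Submodule.span KK (z '' {i | j ≤ i})
    have hLz : ∀ i j, j ≤ i → z i ∈ L j := fun i j h => Submodule.subset_span ⟨i, h, rfl⟩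
    have hanti : ∀ j, L (j + 1) ≤ L j := fun j => Submodule.span_mono (Set.image_mono fun i hi =>
      (Nat.le_succ j).trans hi)
    have hstep : ∀ (C : Matrix (Fin n) (Fin n) KK), (∀ i, C *ᵥ z i = 0 ∨ C *ᵥ z i = z (i + 1)) →
        ∀ j, ∀ x ∈ L j, C *ᵥ x ∈ L (j + 1) := by
      intro C hC j x hx
      refine Submodule.span_induction ?_ ?_ ?_ ?_ hx
      · rintro _ ⟨i, hi, rfl⟩
        rcases hC i with h | h
        · rw [h]; exact Submodule.zero_mem _
        · rw [h]; exact hLz _ _ (Nat.succ_le_succ hi)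
      · rw [mulVec_zero]; exact Submodule.zero_mem _
      · intro x y _ _ hx hy
        rw [mulVec_add]; exact Submodule.add_mem _ hx hy
      · intro c x _ hx
        rw [mulVec_smul]; exact Submodule.smul_mem _ c hx
    have hAz : ∀ i, A *ᵥ z i = 0 ∨ A *ᵥ z i = z (i + 1) := by
      intro i
      obtain ⟨j, rfl | rfl⟩ := Nat.even_or_odd' i
      · left
        rw [hz0]
        rcases j with _ | j
        · rw [pow_zero, one_mulVec]; exact hAw
        · rw [mulVec_mulVec, pow_succ', ← mul_assoc, ← mul_assoc, hAA, zero_mul, zero_mul, zero_mulVec]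
      · right
        rw [hz1, show 2 * j + 1 + 1 = 2 * (j + 1) by ring, hz0, pow_succ', mulVec_mulVec, mulVec_mulVec, mul_assoc]
    have hBz : ∀ i, B *ᵥ z i = 0 ∨ B *ᵥ z i = z (i + 1) := by
      intro i
      obtain ⟨j, rfl | rfl⟩ := Nat.even_or_odd' i
      · right; rw [hz0, hz1]
      · left; rw [hz1, mulVec_mulVec, hBB, zero_mulVec]
    have hall : ∀ g : X, ∀ j, ∀ x ∈ L j, (ρ' g - 1) *ᵥ x ∈ L (j + 1) := by
      intro g
      have hg : g ∈ Subgroup.closure ({a', b'} : Set X) := hgen.symm ▸ Subgroup.mem_top g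
      rw [← Subgroup.mem_toSubmonoid, Subgroup.closure_toSubmonoid_of_finite] at hg
      induction hg using Submonoid.closure_induction with
      | mem x hx =>
        rcases hx with rfl | hx
        · exact hstep A hAz
        · rw [Set.mem_singleton_iff.mp hx]
          exact hstep B hBz
      | one =>
        intro j x _
        rw [OneMemClass.coe_one, map_one, sub_self, zero_mulVec]; exact Submodule.zero_mem _
      | mul g h _ _ hg hh =>
        intro j x hx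
        have e : (ρ' ((g * h : X) : Q) - 1) *ᵥ x =
            (ρ' g - 1) *ᵥ ((ρ' h - 1) *ᵥ x) + (ρ' g - 1) *ᵥ x + (ρ' h - 1) *ᵥ x := by
          rw [Subgroup.coe_mul, map_mul, mulVec_mulVec, ← add_mulVec, ← add_mulVec]
          congr 1
          noncomm_ring
        rw [e]
        exact Submodule.add_mem _ (Submodule.add_mem _ (hanti _ (hg _ _ (hh j x hx))) (hg j x hx)) (hh j x hx)
    have hbot : L (2 * N) = ⊥ := by
      rw [eq_bot_iff, Submodule.span_le]
      rintro _ ⟨i, hi, rfl⟩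
      obtain ⟨j, rfl | rfl⟩ := Nat.even_or_odd' i
      · rw [SetLike.mem_coe, Submodule.mem_bot, hz0, ← Nat.sub_add_cancel (show N ≤ j by simp only [Set.mem_setOf_eq] at hi; omega),
          pow_add, ← mulVec_mulVec, hN, mulVec_zero]
      · rw [SetLike.mem_coe, Submodule.mem_bot, hz1, ← Nat.sub_add_cancel (show N ≤ j by simp only [Set.mem_setOf_eq] at hi; omega),
          pow_add, ← mulVec_mulVec, hN, mulVec_zero, mulVec_zero]
    obtain ⟨m, hm⟩ : ∃ m, 2 * N ≤ p ^ m := ⟨2 * N, (Nat.lt_pow_self (Fact.out : p.Prime).one_lt).le⟩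
    rcases Nat.eq_zero_or_pos n with hn | hn
    · subst hn
      exact hbw (Subsingleton.elim _ _)
    haveI : Nonempty (Fin n) := ⟨⟨0, hn⟩⟩
    have hpfix : ∀ g : X, ρ' ((g : Q) ^ p ^ m) *ᵥ w' = w' := by
      intro g
      have hpow : ∀ i, (ρ' g - 1) ^ i *ᵥ w' ∈ L i := by
        intro i
        induction i with
        | zero =>
          rw [pow_zero, one_mulVec]
          have := hLz 0 0 le_rfl
          rwa [show (0 : ℕ) = 2 * 0 from rfl, hz0, pow_zero, one_mulVec] at this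
        | succ i ih => rw [pow_succ', ← mulVec_mulVec]; exact hall g i _ ih
      have h0 : (ρ' g - 1) ^ (2 * N) *ᵥ w' = 0 := (Submodule.mem_bot KK).mp (hbot ▸ hpow _)
      have h1 : (ρ' g - 1) ^ p ^ m *ᵥ w' = 0 := by
        rw [← Nat.sub_add_cancel hm, pow_add, ← mulVec_mulVec, h0, mulVec_zero]
      rw [sub_pow_char_pow_of_commute p m (Commute.one_right (ρ' g)), one_pow, sub_mulVec, one_mulVec, sub_eq_zero,
        ← map_pow] at h1
      exact h1
    let St : Subgroup X :=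
      { carrier := {g | ρ (g : Q) *ᵥ w = w}
        one_mem' := by simp
        mul_mem' := fun {g h} hg hh => by
          simp only [Set.mem_setOf_eq] at hg hh ⊢
          rw [Subgroup.coe_mul, map_mul, ← mulVec_mulVec, hh, hg]
        inv_mem' := fun {g} hg => by
          simp only [Set.mem_setOf_eq] at hg ⊢
          conv_lhs => rw [← hg]
          rw [mulVec_mulVec, ← map_mul, InvMemClass.coe_inv, inv_mul_cancel, map_one, one_mulVec] }
    have hSt : St = ⊤ := eq_top_of_sylow_of_coprime P St (fun t ht => hPw t ht) fun g hg => by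
      obtain ⟨q, hq⟩ := exists_pow_eq_self_of_coprime (x := g) (hg.symm.pow_left m)
      have h1 : g ^ p ^ m ∈ St := by
        show ρ ((g ^ p ^ m : X) : Q) *ᵥ w = w
        refine hem ?_
        rw [hmove, Subgroup.coe_pow]
        exact hpfix g
      rw [← hq]
      exact St.pow_mem h1 q
    exact hbw (show b' ∈ St from hSt ▸ Subgroup.mem_top _)
  obtain ⟨W, hwW, q, ψ, μ, c, hμ, hc, hqw, hψ, hψa, hψb⟩ :=
    exists_plane_quotient (ρ'.comp X.subtype) (a' := a') (b' := b') hgen hAA hBB w' hAw hnil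
  obtain ⟨u, y, hu, hyN, hy10, hy00, hy11, hτ⟩ := exists_torus hp ψ hμ hψa hψb P haP
  set d : Q := (y : Q)
  have hdR : d ∈ R := hPR _ hyN
  set lam := φk (u : ZMod p)
  set τ := (ψ y).1 0 1
  have hlaminv : φk ((u⁻¹ : (ZMod p)ˣ) : ZMod p) = lam⁻¹ := by
    rw [Units.val_inv_eq_inv_val, map_inv₀]
  have hlam : lam ≠ 0 := fun e => u.ne_zero (φk.injective (e.trans (map_zero φk).symm))
  -- the rational points
  let WF : AddSubgroup (Fin n → ZMod p) := W.toAddSubgroup.comap em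
  let qF : WF →+ (Fin 2 → KK) := q.comp ((em.comp WF.subtype).codRestrict W fun x => x.2)
  have hqF : ∀ x : WF, qF x = q ⟨em x, x.2⟩ := fun x => rfl
  have hact : ∀ (g : X) (x : WF), ∃ h : ρ (g : Q) *ᵥ (x : Fin n → ZMod p) ∈ WF,
      qF ⟨_, h⟩ = (ψ g).1 *ᵥ qF x := by
    intro g x
    obtain ⟨h, e⟩ := hψ g ⟨em x, x.2⟩
    have hm := hmove (g : Q) (x : Fin n → ZMod p)
    refine ⟨show em _ ∈ W by rw [hm]; exact h, ?_⟩
    rw [hqF, hqF]
    refine (congrArg q (Subtype.ext hm)).trans e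
  let wF : WF := ⟨w, hwW⟩
  have hqwF : qF wF = ![c, 0] := hqw
  -- the eigenvector
  have heig : ∃ x ∈ E, x ≠ 0 ∧ ρ d *ᵥ x = (u : ZMod p) • x := by
    let E₁ : AddSubgroup (Fin n → ZMod p) :=
      { carrier := {x | x ∈ E ∧ ∃ h : x ∈ WF, qF ⟨x, h⟩ 1 = 0}
        zero_mem' := ⟨E.zero_mem, WF.zero_mem, by
          rw [show (⟨0, WF.zero_mem⟩ : WF) = 0 from rfl, map_zero]; rfl⟩
        add_mem' := fun {x y} ⟨hx, hx', ex⟩ ⟨hy, hy', ey⟩ => ⟨E.add_mem hx hy, WF.add_mem hx' hy', by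
          rw [show (⟨x + y, WF.add_mem hx' hy'⟩ : WF) = ⟨x, hx'⟩ + ⟨y, hy'⟩ from rfl, map_add, Pi.add_apply,
            ex, ey, add_zero]⟩
        neg_mem' := fun {x} ⟨hx, hx', ex⟩ => ⟨E.neg_mem hx, WF.neg_mem hx', by
          rw [show (⟨-x, WF.neg_mem hx'⟩ : WF) = -⟨x, hx'⟩ from rfl, map_neg, Pi.neg_apply, ex, neg_zero]⟩ }
    have hsm : ∀ (r : ZMod p) (x : E₁), r • (x : Fin n → ZMod p) ∈ E₁ := fun r x => by
      rw [← ZMod.natCast_zmod_val r, Nat.cast_smul_eq_nsmul]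
      exact E₁.nsmul_mem x.2 _
    have hmem : ∀ x : E₁, ρ d *ᵥ (x : Fin n → ZMod p) - (u : ZMod p) • (x : Fin n → ZMod p) ∈ E₁ := by
      intro x
      obtain ⟨hx, hx', ex⟩ := x.2
      obtain ⟨h, e⟩ := hact y ⟨_, hx'⟩
      refine E₁.sub_mem ⟨hE d hdR _ hx, h, ?_⟩ (hsm _ x)
      rw [e, SLTwoSub.mulVec_two, hy10, ex]; ring
    let δ : E₁ → E₁ := fun x => ⟨_, hmem x⟩
    have hwE₁ : w ∈ E₁ := ⟨hw, wF.2, by rw [show (⟨w, wF.2⟩ : WF) = wF from rfl, hqwF]; rfl⟩
    have hns : ¬ Function.Surjective δ := by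
      intro hs
      obtain ⟨x, hx⟩ := hs ⟨w, hwE₁⟩
      obtain ⟨-, hx', ex⟩ := x.2
      obtain ⟨h, e⟩ := hact y ⟨_, hx'⟩
      have hu' : (u : ZMod p) • (⟨_, hx'⟩ : WF).1 = ((u : ZMod p).val • (⟨_, hx'⟩ : WF) : WF).1 := by
        rw [AddSubgroup.coe_nsmul, ← Nat.cast_smul_eq_nsmul (ZMod p), ZMod.natCast_zmod_val]
      have e2 : (⟨_, h⟩ : WF) - (u : ZMod p).val • (⟨_, hx'⟩ : WF) = wF := by
        apply Subtype.ext
        rw [AddSubgroup.coe_sub, ← hu']
        exact congrArg Subtype.val hx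
      have e3 := congrFun (congrArg qF e2) 0
      rw [map_sub, map_nsmul, hqwF, Pi.sub_apply, Pi.smul_apply, e, SLTwoSub.mulVec_two, hy00, ex, nsmul_eq_mul,
        show ((u : ZMod p).val : KK) = lam by rw [← map_natCast φk, ZMod.natCast_zmod_val]] at e3
      simp at e3
      exact hc e3.symm
    have hni : ¬ Function.Injective δ := fun hi => hns (Finite.surjective_of_injective hi)
    obtain ⟨x, x', hxx, hne⟩ := Function.not_injective_iff.mp hni
    refine ⟨(x : Fin n → ZMod p) - x', E.sub_mem x.2.1 x'.2.1, sub_ne_zero.mpr fun e => hne (Subtype.ext e), ?_⟩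
    have h := congrArg Subtype.val hxx
    simp only [δ] at h
    rw [mulVec_sub, smul_sub]
    linear_combination (norm := module) h
  -- the plane
  let x₀ : WF := ⟨(ρ b *ᵥ w) - w, WF.sub_mem ((hact b' wF).1) wF.2⟩
  have hqx₀ : qF x₀ = ![0, c] := by
    obtain ⟨h, e⟩ := hact b' wF
    rw [show x₀ = (⟨_, h⟩ : WF) - wF from rfl, map_sub, e, hqwF, hψb]
    funext i
    fin_cases i <;> simp [SLTwoSub.mulVec_two]
  let x₁ : WF := ⟨(ρ a *ᵥ (x₀ : Fin n → ZMod p)) - x₀, WF.sub_mem ((hact a' x₀).1) x₀.2⟩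
  have hqx₁ : qF x₁ = ![μ * c, 0] := by
    obtain ⟨h, e⟩ := hact a' x₀
    rw [show x₁ = (⟨_, h⟩ : WF) - x₀ from rfl, map_sub, e, hqx₀, hψa]
    funext i
    fin_cases i <;> simp [SLTwoSub.mulVec_two]
    try ring
  obtain ⟨x₂, σ, hqx₂, hσ⟩ : ∃ (x₂ : WF) (σ : KK), qF x₂ = ![σ, c] ∧ lam * σ + τ * c = lam⁻¹ * σ := by
    by_cases he : lam⁻¹ = lam
    · exact ⟨x₀, 0, hqx₀, by rw [hτ he]; ring⟩
    · set r : ZMod p := (((u⁻¹ : (ZMod p)ˣ) : ZMod p) - (u : ZMod p))⁻¹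
      obtain ⟨h, e⟩ := hact y x₀
      have hne : lam⁻¹ - lam ≠ 0 := sub_ne_zero.mpr he
      refine ⟨r.val • ((⟨_, h⟩ : WF) - (u : ZMod p).val • x₀), (lam⁻¹ - lam)⁻¹ * (τ * c), ?_, ?_⟩
      · have hr : ((r.val : ℕ) : KK) = (lam⁻¹ - lam)⁻¹ := by
          rw [← map_natCast φk, ZMod.natCast_zmod_val]
          show φk (((u⁻¹ : (ZMod p)ˣ) : ZMod p) - (u : ZMod p))⁻¹ = _
          rw [map_inv₀, map_sub, hlaminv]
        have hu' : (((u : ZMod p).val : ℕ) : KK) = lam := by rw [← map_natCast φk, ZMod.natCast_zmod_val]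
        rw [map_nsmul, map_sub, map_nsmul, e, hqx₀, ← Nat.cast_smul_eq_nsmul KK, ← Nat.cast_smul_eq_nsmul KK, hr, hu']
        funext i
        fin_cases i
        · simp [SLTwoSub.mulVec_two, τ]
        · simp [SLTwoSub.mulVec_two, hy11]
          rw [show lam⁻¹ * c - lam * c = (lam⁻¹ - lam) * c by ring, ← mul_assoc, inv_mul_cancel₀ hne, one_mul]
      · have : (lam⁻¹ - lam) * ((lam⁻¹ - lam)⁻¹ * (τ * c)) = τ * c := by
          rw [← mul_assoc, mul_inv_cancel₀ hne, one_mul]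
        linear_combination -this
  let L : (Fin 2 → ZMod p) →+ (Fin 2 → KK) :=
    { toFun := fun i => φk (i 0) • ![μ * c, 0] + φk (i 1) • ![σ, c]
      map_zero' := by simp
      map_add' := fun i j => by simp only [Pi.add_apply, map_add, add_smul]; abel }
  have hLinj : Function.Injective L := by
    intro i j e
    have e0 := congrFun e 0
    have e1 := congrFun e 1
    simp [L, hc] at e0 e1
    have h1 : φk (i 1) = φk (j 1) := e1
    rw [h1] at e0
    simp [hμ, hc] at e0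
    funext l
    fin_cases l
    · exact φk.injective e0
    · exact φk.injective e1
  let U : AddSubgroup (Fin n → ZMod p) :=
    (L.range.comap qF).map WF.subtype
  have hUe : ∀ x : U, ∃ (h : (x : Fin n → ZMod p) ∈ WF) (i : Fin 2 → ZMod p), L i = qF ⟨_, h⟩ := by
    rintro ⟨_, ⟨x, ⟨i, hi⟩, rfl⟩⟩
    exact ⟨x.2, i, hi⟩
  choose hUW fi hfi using hUe
  let f : U →+ (Fin 2 → ZMod p) :=
    { toFun := fi
      map_zero' := hLinj (by rw [hfi, map_zero, show (⟨_, hUW 0⟩ : WF) = 0 from rfl, map_zero])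
      map_add' := fun x y => hLinj (by
        rw [map_add, hfi, hfi, hfi, ← map_add]
        rfl) }
  have hLab : ∀ i, L i = ![φk (i 0) * (μ * c) + φk (i 1) * σ, φk (i 1) * c] := fun i => by
    funext l; fin_cases l <;> simp [L]
  refine ⟨u, d, a, hu, hdR, haR, heig, U, f, fun i => ?_, fun x => ?_⟩
  · set x := (i 0).val • x₁ + (i 1).val • x₂
    have e : L i = qF x := by
      rw [map_add, map_nsmul, map_nsmul, hqx₁, hqx₂, ← Nat.cast_smul_eq_nsmul KK, ← Nat.cast_smul_eq_nsmul KK,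
        ← map_natCast φk, ← map_natCast φk, ZMod.natCast_zmod_val, ZMod.natCast_zmod_val]
      rfl
    refine ⟨⟨x, ⟨x, ⟨i, e⟩, rfl⟩⟩, hLinj ?_⟩
    rw [show f _ = fi _ from rfl, hfi, e]
  · obtain ⟨h1, e1⟩ := hact a' ⟨_, hUW x⟩
    obtain ⟨h2, e2⟩ := hact y ⟨_, hUW x⟩
    have k1 : L (!![1, 1; 0, 1] *ᵥ fi x) = qF ⟨_, h1⟩ := by
      rw [e1, hψa, ← hfi, hLab, hLab]
      funext l
      fin_cases l <;> simp [SLTwoSub.mulVec_two]
      ring
    have k2 : L (!![(u : ZMod p), 0; 0, ((u⁻¹ : (ZMod p)ˣ) : ZMod p)] *ᵥ fi x) = qF ⟨_, h2⟩ := by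
      rw [e2, ← hfi, hLab, hLab]
      funext l
      fin_cases l
      · simp only [Fin.zero_eta, SLTwoSub.mulVec_two, Matrix.of_apply, Matrix.cons_val', Matrix.cons_val_zero, Matrix.cons_val_one, Matrix.cons_val_fin_one, hy00, map_add, map_mul, map_zero, hlaminv]
        linear_combination (-(φk (fi x 1))) * hσ
      · simp only [Fin.mk_one, SLTwoSub.mulVec_two, Matrix.of_apply, Matrix.cons_val', Matrix.cons_val_zero, Matrix.cons_val_one, Matrix.cons_val_fin_one, hy10, hy11, map_add, map_mul, map_zero, hlaminv]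
        ring
    refine ⟨⟨⟨_, h1⟩, ⟨_, k1⟩, rfl⟩, ⟨⟨_, h2⟩, ⟨_, k2⟩, rfl⟩, hLinj ?_, hLinj ?_⟩
    · rw [show f _ = fi _ from rfl, hfi, show f x = fi x from rfl, k1]
    · rw [show f _ = fi _ from rfl, hfi, show f x = fi x from rfl, k2]


end Cfsg.Lib.ZJFail
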