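import Cfsg.Agent.Components.ZJFail.Basic
import Cfsg.Agent.Components.ZJFail.Pair

/-!
General tools: maximal `p`-subgroups of a subgroup and the Frattini argument for agreement.
-/

set_option autoImplicit false
set_option linter.unusedSectionVars false
set_option linter.style.haveILetI false

namespace Cfsg.Lib.ZJFail

open Subgroup
open scoped commutatorElement

universe u

variable {p : ℕ} [Fact p.Prime] {G : Type u} [Group G] [Finite G]

/-- `T` is a Sylow subgroup of `M` -/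
structure SylIn (p : ℕ) (T M : Subgroup G) : Prop where
  le : T ≤ M
  isP : IsPGroup p T
  max : ∀ W : Subgroup G, W ≤ M → IsPGroup p W → T ≤ W → W = T

theorem SylIn.exists_sylow {T M : Subgroup G} (h : SylIn p T M) :
    ∃ P : Sylow p M, (P : Subgroup M) = T.subgroupOf M :=
  ⟨{ toSubgroup := T.subgroupOf M
     isPGroup' := h.isP.comap_subtype
     is_maximal' := fun {W} hW hle => by
      have h1 : W.map M.subtype = T := h.max _ (map_subtype_le W) (hW.map _) fun y hy =>
        ⟨⟨y, h.le hy⟩, hle hy, rfl⟩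
      rw [← h1]
      exact (comap_map_eq_self_of_injective M.subtype_injective W).symm }, rfl⟩

theorem SylIn.conj_into {T M W : Subgroup G} (h : SylIn p T M) (hW : IsPGroup p W) (hWM : W ≤ M) :
    ∃ r ∈ M, W.map (MulAut.conj r).toMonoidHom ≤ T := by
  obtain ⟨P, hP⟩ := h.exists_sylow
  obtain ⟨r, -, hr⟩ := exists_conj_into P (L := ⊤) le_top
    (hW.comap_subtype (K := M) : IsPGroup p (W.subgroupOf M)) le_top
  refine ⟨r, r.2, ?_⟩
  rintro _ ⟨y, hy, rfl⟩
  exact hP.le (hr ⟨⟨y, hWM hy⟩, hy, rfl⟩)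

theorem SylIn.mono {T M L : Subgroup G} (h : SylIn p T M) (hTL : T ≤ L) (hLM : L ≤ M) : SylIn p T L :=
  ⟨hTL, h.isP, fun W hW => h.max W (hW.trans hLM)⟩

theorem SylIn.inf {T M L : Subgroup G} (h : SylIn p T M) (hLM : L ≤ M) (hn : M ≤ normalizer (L : Set G)) :
    SylIn p (T ⊓ L) L := by
  refine ⟨inf_le_right, h.isP.to_le inf_le_left, fun W hWL hW hle => ?_⟩
  obtain ⟨r, hrM, hr⟩ := h.conj_into hW (hWL.trans hLM)
  refine (eq_of_le_of_card_ge hle ?_).symm
  rw [← Cfsg.Lib.Transfer.card_map_conj W r]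
  refine card_le_of_le (le_inf hr ?_)
  rintro _ ⟨y, hy, rfl⟩
  exact (mem_normalizer_iff.mp (hn hrM) y).mp (hWL hy)

/-- generation by a Sylow subgroup and the elements of order prime to `p` -/
theorem SylIn.le_of {T L R : Subgroup G} (h : SylIn p T L) (hT : T ≤ R)
    (hc : ∀ x ∈ L, (orderOf x).Coprime p → x ∈ R) : L ≤ R := by
  obtain ⟨P, hP⟩ := h.exists_sylow
  have := eq_top_of_sylow_of_coprime P (R.subgroupOf L) (by rw [hP]; exact fun x hx => hT hx)
    fun x hx => hc x x.2 (by rwa [orderOf_coe])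
  exact fun x hx => (this ▸ mem_top _ : (⟨x, hx⟩ : L) ∈ R.subgroupOf L)

/-- the Frattini argument -/
theorem SylIn.exists_frattini {T₀ L M : Subgroup G} (h : SylIn p T₀ L)
    (hn : M ≤ normalizer (L : Set G)) {m : G} (hm : m ∈ M) :
    ∃ l ∈ L, l * m ∈ normalizer (T₀ : Set G) := by
  obtain ⟨l, hl, hle⟩ := h.conj_into (h.isP.map (MulAut.conj m).toMonoidHom) (by
    rintro _ ⟨y, hy, rfl⟩
    exact (mem_normalizer_iff.mp (hn hm) y).mp (h.le hy))
  refine ⟨l, hl, mem_normalizer_of_conj_le fun y hy => ?_⟩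
  have := hle ⟨_, ⟨y, hy, rfl⟩, rfl⟩
  simpa [mul_assoc] using this

theorem SylIn.frattini_le {T₀ L M R : Subgroup G} (h : SylIn p T₀ L) (hLM : L ≤ M)
    (hn : M ≤ normalizer (L : Set G)) (hLR : L ≤ R)
    (hR : ∀ m ∈ M, m ∈ normalizer (T₀ : Set G) → m ∈ R) : M ≤ R := fun m hm => by
  obtain ⟨l, hl, hlm⟩ := h.exists_frattini hn hm
  have := R.mul_mem (R.inv_mem (hLR hl)) (hR _ (M.mul_mem (hLM hl) hm) hlm)
  rwa [inv_mul_cancel_left] at this

/-- a `p`-element centralized commutator of an element of order prime to `p` is trivial -/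
theorem commute_of_coprime {x e : G} (hx : (orderOf x).Coprime p) (hc : Commute x ⁅x, e⁆)
    (hp : ∃ k : ℕ, ⁅x, e⁆ ^ p ^ k = 1) : x * e * x⁻¹ = e := by
  set z := ⁅x, e⁆ with hz
  have key : ∀ n : ℕ, x ^ n * e * (x ^ n)⁻¹ = z ^ n * e := by
    intro n
    induction n with
    | zero => simp
    | succ n ih =>
      calc x ^ (n + 1) * e * (x ^ (n + 1))⁻¹ = x * (x ^ n * e * (x ^ n)⁻¹) * x⁻¹ := by
            rw [pow_succ']; group
        _ = x * (z ^ n * e) * x⁻¹ := by rw [ih]
        _ = z ^ n * (x * e * x⁻¹) := by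
            rw [← mul_assoc, (hc.pow_right n).eq]; group
        _ = z ^ n * (z * e) := by rw [show x * e * x⁻¹ = z * e by rw [hz, commutatorElement_def]; group]
        _ = z ^ (n + 1) * e := by rw [pow_succ, mul_assoc]
  have h1 := key (orderOf x)
  rw [pow_orderOf_eq_one, one_mul, inv_one, mul_one] at h1
  have h2 : z ^ orderOf x = 1 := mul_eq_right.mp h1.symm
  obtain ⟨k, hk⟩ := hp
  have h3 : z = 1 := orderOf_eq_one_iff.mp (Nat.eq_one_of_dvd_coprimes (hx.pow_right k)
    (orderOf_dvd_of_pow_eq_one h2) (orderOf_dvd_of_pow_eq_one hk))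
  rw [show x * e * x⁻¹ = z * e by rw [hz, commutatorElement_def]; group, h3, one_mul]

theorem le_normalizer_sup {K A B : Subgroup G} (hA : K ≤ normalizer (A : Set G)) (hB : K ≤ normalizer (B : Set G)) :
    K ≤ normalizer ((A ⊔ B : Subgroup G) : Set G) := fun k hk => by
  refine Cfsg.Lib.Transfer.map_conj_eq_self_iff.mp ?_
  rw [Subgroup.map_sup, Cfsg.Lib.Transfer.map_conj_eq_self_iff.mpr (hA hk),
    Cfsg.Lib.Transfer.map_conj_eq_self_iff.mpr (hB hk)]

theorem le_normalizer_inf {K A B : Subgroup G} (hA : K ≤ normalizer (A : Set G)) (hB : K ≤ normalizer (B : Set G)) :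
    K ≤ normalizer ((A ⊓ B : Subgroup G) : Set G) := fun k hk => mem_normalizer_of_conj_le fun y hy =>
  ⟨(mem_normalizer_iff.mp (hA hk) y).mp hy.1, (mem_normalizer_iff.mp (hB hk) y).mp hy.2⟩

end Cfsg.Lib.ZJFail
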