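import Cfsg.Agent.Components.ZJFail.Lift
import Cfsg.Agent.Components.ZJFail.Measure
import Cfsg.Agent.Components.ZJFail.Tools
import Cfsg.Agent.Fusion.GTFamily

/-!
In a minimal failure the normalizer of `Z(J(S))` controls the fusion of every subgroup of `S`.
-/

set_option autoImplicit false
set_option linter.unusedSectionVars false
set_option linter.style.haveILetI false

namespace Cfsg.Lib.ZJFail

open Subgroup
open Cfsg.Lib.CtrlD (Ag)
open Cfsg.Lib.Control (img)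
open Cfsg.Lib.Fusion (maxAb maxAb_nonempty)
open scoped commutatorElement

universe u

variable {p : ℕ} [Fact p.Prime] {G : Type u} [Group G] [Finite G] (X : Setup p G)

namespace Setup

theorem sylIn_top : SylIn p (X.S : Subgroup G) ⊤ :=
  ⟨le_top, X.S.2, fun _ _ hW h => X.S.3 hW h⟩

/-- a subgroup normalized by `K` and contained in `S` commutes with `B` modulo `Z` -/
theorem commutator_Bsub {K D : Subgroup G} (hKD : K ≤ normalizer (D : Set G))
    (hDS : D ≤ (X.S : Subgroup G)) : ∀ d ∈ D, ∀ b ∈ X.Bsub K, ⁅d, b⁆ ∈ X.Z := by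
  intro d hd b hb
  have h : X.Bsub K ≤ (centralizer ({X.π d} : Set (G ⧸ X.Z))).comap X.π := by
    refine sup_le ((closure_le _).mpr ?_) fun z hz => ?_
    · rintro _ ⟨k, hk, rfl⟩
      show X.π (k * X.w * k⁻¹) ∈ centralizer _
      rw [mem_centralizer_singleton_iff, eq_comm, ← commutatorElement_eq_one_iff_mul_comm,
        ← map_commutatorElement, X.π_eq_one]
      have h1 := (inferInstance : X.Z.Normal).conj_mem _
        (X.hwS _ (hDS ((mem_normalizer_iff.mp (hKD (K.inv_mem hk)) d).mp hd))) k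
      refine (congrArg (· ∈ X.Z) ?_).mp h1
      simp only [commutatorElement_def]
      group
    · show X.π z ∈ centralizer _
      rw [X.π_eq_one.mpr hz]
      exact one_mem _
  have h1 : X.π b ∈ centralizer ({X.π d} : Set (G ⧸ X.Z)) := h hb
  rw [mem_centralizer_singleton_iff, eq_comm, ← commutatorElement_eq_one_iff_mul_comm, ← map_commutatorElement,
    X.π_eq_one] at h1
  exact h1

theorem Z_le_CV {K B : Subgroup G} (hZ : X.Z ≤ K) : X.Z ≤ X.CV K B := fun z hz =>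
  X.mem_CV.mpr ⟨hZ hz, fun b _ => by
    rw [← X.π_eq_one, map_commutatorElement, X.π_eq_one.mpr hz, commutatorElement_one_left]⟩

theorem comm_mem_Z {a b : G} (h : ⁅a, b⁆ ∈ X.Z) : ⁅b, a⁆ ∈ X.Z := by
  rw [← commutatorElement_inv]
  exact X.Z.inv_mem h

theorem commute_of_coprime_of_mem {x e : G} (hx : (orderOf x).Coprime p) (h : ⁅x, e⁆ ∈ X.Z) :
    x * e * x⁻¹ = e :=
  commute_of_coprime hx ((mem_centralizer_iff.mp (X.hcop x hx) _ h).symm)
    (let ⟨k, hk⟩ := X.S.2 ⟨_, X.Z_le h⟩; ⟨k, congrArg Subtype.val hk⟩)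

/-- **the normal case** -/
theorem terminal (hBS : X.Bsub ⊤ ≤ (X.S : Subgroup G))
    (hn : ((X.S : Subgroup G) ⊓ X.CV ⊤ (X.Bsub ⊤)).Normal) : False := by
  classical
  set B := X.Bsub ⊤
  set Pv := (X.S : Subgroup G) ⊓ X.CV ⊤ B
  have hBn : ∀ g : G, g ∈ normalizer (B : Set G) := fun g => X.le_normalizer_Bsub ⊤ (mem_top g)
  have hzjA : ∀ A ∈ maxAb (X.S : Subgroup G), zj X.S ≤ A := fun A hA => by
    rw [zj, Cfsg.Lib.Fusion.centerThompsonAOf_eq]
    exact iInf₂_le A hA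
  have hZA : ∀ A ∈ maxAb (X.S : Subgroup G), X.Z ≤ A := fun A hA => X.hZ.trans (hzjA A hA)
  obtain ⟨A, hA, hAv⟩ : ∃ A ∈ maxAb (X.S : Subgroup G), ¬ A ≤ Pv := by
    by_contra hall
    push Not at hall
    refine X.hnn (normalizer_eq_top_iff.mp (top_le_iff.mp ?_))
    have e : zj X.S = Cfsg.centerThompsonAOf Pv := by
      rw [zj, Cfsg.Lib.Fusion.centerThompsonAOf_eq, Cfsg.Lib.Fusion.centerThompsonAOf_eq,
        maxAb_eq_of_le inf_le_left hall]
    rw [e, ← normalizer_eq_top_iff.mpr hn]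
    exact normalizer_le_normalizer_zj Pv
  have hder : ⁅B, B⁆ ≤ X.Z := commutator_le.mpr fun a ha b hb =>
    X.commutator_Bsub (D := B) (fun g _ => hBn g) hBS a ha b hb
  have hBA : ¬ B ≤ A := fun hle => hAv (le_inf hA.1 fun a ha => X.mem_CV.mpr ⟨mem_top a, fun b hb => by
    haveI := hA.2.1
    rw [commutatorElement_eq_one_iff_mul_comm.mpr (congrArg Subtype.val (mul_comm' (⟨a, ha⟩ : A) ⟨b, hle hb⟩))]
    exact one_mem _⟩)
  obtain ⟨A', hA', -, hBA', hN⟩ := Cfsg.Lib.Fusion.exists_maxAb_normalized X.hp X.S.2 hBS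
    (fun g _ => hBn g) ⟨A, hA, hder.trans (hZA A hA), hBA⟩
  haveI := hA'.2.1
  have hAC : ¬ A' ≤ X.CV ⊤ B := by
    intro hle
    refine hBA' (sup_le ((closure_le _).mpr ?_) (hZA A' hA'))
    rintro _ ⟨g, -, rfl⟩
    have hm : A'.map (MulAut.conj g⁻¹).toMonoidHom ∈ maxAb (X.S : Subgroup G) := by
      refine ⟨?_, inferInstance, fun A'' h1 h2 => ?_⟩
      · rintro _ ⟨y, hy, rfl⟩
        exact (hn.conj_mem y ⟨hA'.1 hy, hle hy⟩ g⁻¹).1
      · rw [Cfsg.Lib.Transfer.card_map_conj]; exact hA'.2.2 A'' h1 h2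
    obtain ⟨y, hy, hyw⟩ := hzjA _ hm X.hw
    show g * X.w * g⁻¹ ∈ A'
    rw [← hyw]
    simpa [mul_assoc] using hy
  refine X.false_of_quadratic (K := ⊤) le_top le_rfl (fun W _ hW h => X.S.3 hW h) hBS hA'.1 hAC
    (fun a ha b hb => ?_) fun F _ _ hSF _ hF k hk hkF => ?_
  · have h1 : ⁅a, b⁆ ∈ A' := by
      rw [commutatorElement_def, show a * b * a⁻¹ * b⁻¹ = a * (b * a⁻¹ * b⁻¹) by group]
      exact A'.mul_mem ha ((mem_normalizer_iff.mp (hN hb) _).mp (A'.inv_mem ha))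
    rw [commutatorElement_eq_one_iff_mul_comm.mpr (congrArg Subtype.val (mul_comm' (⟨a, ha⟩ : A') ⟨_, h1⟩))]
    exact one_mem _
  · refine X.ind (normalizer (F : Set G)) hSF (fun e => hF (top_le_iff.mpr e)) k hkF (B : Set G) hBS ?_
    rw [img_subgroup, Cfsg.Lib.Transfer.map_conj_eq_self_iff.mpr (hBn k)]
    exact hBS

/-- a member outside the centralizer gives a contradiction -/
theorem quad_case {K P : Subgroup G} (hP : SylIn p P K) (hPS : P ≤ (X.S : Subgroup G))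
    (hBP : X.Bsub K ≤ P) {A₀ : Subgroup (G ⧸ X.Z)} (hA₀ : A₀ ∈ maxAb (X.bar P))
    (hA₀C : ¬ A₀ ≤ X.bar (P ⊓ X.CV K (X.Bsub K)))
    (hF : ∀ F : Subgroup G, P ⊓ X.CV K (X.Bsub K) ≤ F → F ≤ P → ∀ A ∈ maxAb (X.bar P),
      ¬ A ≤ X.bar (P ⊓ X.CV K (X.Bsub K)) → A ≤ X.bar F →
        ∀ k ∈ K, k ∈ normalizer (F : Set G) → Ag X.H ((X.Bsub K : Subgroup G) : Set G) k) : False := by
  set B := X.Bsub K
  set V := X.bar B
  haveI hV : IsMulCommutative V := (X.Bsub_elementary (hBP.trans hPS)).1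
  -- members containing `V` lie in the image of the centralizer
  have hiff : ∀ A ∈ maxAb (X.bar P), V ≤ A → A ≤ X.bar (P ⊓ X.CV K B) := by
    intro A hA hle a ha
    obtain ⟨y, hy, rfl⟩ := hA.1 ha
    refine mem_map_of_mem _ ⟨hy, X.mem_CV.mpr ⟨hP.le hy, fun b hb => ?_⟩⟩
    haveI := hA.2.1
    rw [← X.π_eq_one, map_commutatorElement, commutatorElement_eq_one_iff_mul_comm]
    exact congrArg Subtype.val (mul_comm' (⟨_, ha⟩ : A) ⟨_, hle (mem_map_of_mem X.π hb)⟩)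
  have hPV : X.bar P ≤ normalizer (V : Set (G ⧸ X.Z)) :=
    (map_mono (hP.le.trans (X.le_normalizer_Bsub K))).trans (le_normalizer_map X.π)
  obtain ⟨A', hA', -, hVA', hN⟩ := Cfsg.Lib.Fusion.exists_maxAb_normalized_gen (p := p)
    (Or.inr hV) (hP.isP.map X.π) (map_mono hBP) hPV le_rfl le_normalizer
    ⟨A₀, hA₀, (commutator_le.mpr fun a ha b hb => by
      rw [commutatorElement_eq_one_iff_mul_comm.mpr (congrArg Subtype.val (mul_comm' (⟨a, ha⟩ : V) ⟨b, hb⟩))]
      exact one_mem _), fun h => hA₀C (hiff A₀ hA₀ h)⟩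
  haveI := hA'.2.1
  have hAv : ¬ A' ≤ X.bar (P ⊓ X.CV K B) := fun hle => hVA' (by
    -- otherwise `A'` and `V` generate an abelian subgroup
    have hc : ∀ a ∈ A', ∀ v ∈ V, a * v = v * a := by
      intro a ha v hv
      obtain ⟨y, hy, rfl⟩ := hle ha
      obtain ⟨b, hb, rfl⟩ := hv
      rw [← commutatorElement_eq_one_iff_mul_comm, ← map_commutatorElement, X.π_eq_one]
      exact (X.mem_CV.mp hy.2).2 b hb
    haveI : IsMulCommutative (closure ((A' : Set (G ⧸ X.Z)) ∪ V)) := isMulCommutative_closure (by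
      rintro x (hx | hx) y (hy | hy)
      · exact congrArg Subtype.val (mul_comm' (⟨x, hx⟩ : A') ⟨y, hy⟩)
      · exact hc x hx y hy
      · exact (hc y hy x hx).symm
      · exact congrArg Subtype.val (mul_comm' (⟨x, hx⟩ : V) ⟨y, hy⟩))
    have e := eq_of_le_of_card_ge (show A' ≤ closure ((A' : Set (G ⧸ X.Z)) ∪ V) from
      fun x hx => subset_closure (Or.inl hx))
      (hA'.2.2 _ ((closure_le _).mpr (Set.union_subset hA'.1 (map_mono hBP))) inferInstance)
    rw [e]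
    exact fun x hx => subset_closure (Or.inr hx))
  set A := P ⊓ A'.comap X.π
  have hAA' : A' ≤ X.bar A := fun a ha => by
    obtain ⟨y, hy, rfl⟩ := hA'.1 ha
    exact mem_map_of_mem _ ⟨hy, ha⟩
  refine X.false_of_quadratic hP.le hPS hP.max hBP (A := A) inf_le_left
    (fun hle => hAv (hAA'.trans (map_mono (le_inf inf_le_left hle)))) (fun a ha b hb => ?_)
    fun F h1 h2 _ h4 _ k hk hkF => hF F h1 h2 A' hA' hAv (hAA'.trans (map_mono h4)) k hk hkF
  rw [← X.π_eq_one, map_commutatorElement, map_commutatorElement, commutatorElement_eq_one_iff_mul_comm]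
  have h1 : ⁅X.π a, X.π b⁆ ∈ A' := by
    rw [commutatorElement_def, show X.π a * X.π b * (X.π a)⁻¹ * (X.π b)⁻¹ = X.π a * (X.π b * (X.π a)⁻¹ * (X.π b)⁻¹) by group]
    exact A'.mul_mem ha.2 ((mem_normalizer_iff.mp (hN (mem_map_of_mem X.π hb)) _).mp (A'.inv_mem ha.2))
  exact congrArg Subtype.val (mul_comm' (⟨_, ha.2⟩ : A') ⟨_, h1⟩)

/-- agreement on a subgroup -/
def Psi (E : Subgroup G) : Prop :=
  E ≤ (X.S : Subgroup G) → ∀ g : G, E.map (MulAut.conj g).toMonoidHom ≤ (X.S : Subgroup G) → Ag X.H (E : Set G) g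

set_option maxHeartbeats 1000000 in
/-- the normalizer of a well placed subgroup -/
theorem core {E : Subgroup G} (hES : E ≤ (X.S : Subgroup G))
    (IH : ∀ F : Subgroup G, X.mu E < X.mu F → X.Psi F)
    (hT : SylIn p ((X.S : Subgroup G) ⊓ normalizer (E : Set G)) (normalizer (E : Set G)))
    (hP : SylIn p ((X.S : Subgroup G) ⊓ normalizer ((X.Yof E : Subgroup G) : Set G))
      (normalizer ((X.Yof E : Subgroup G) : Set G))) :
    normalizer (E : Set G) ≤ agreeGroup X.H (normalizer (E : Set G)) E le_rfl := by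
  classical
  set M := normalizer (E : Set G)
  set R := agreeGroup X.H M E le_rfl
  set T := (X.S : Subgroup G) ⊓ M
  have hTS : T ≤ (X.S : Subgroup G) := inf_le_left
  have hET : E ≤ T := le_inf hES le_normalizer
  have hTR : T ≤ R := fun t ht => ⟨ht.2, Ag.of_mem (X.S_le_H ht.1)⟩
  have himgE : ∀ m ∈ M, img m (E : Set G) ⊆ (X.S : Subgroup G) := fun m hm => by
    rw [img_subgroup, Cfsg.Lib.Transfer.map_conj_eq_self_iff.mpr hm]
    exact hES
  have hext : ∀ F : Subgroup G, E ≤ F → ¬ F ≤ E → F ≤ (X.S : Subgroup G) →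
      ∀ m ∈ M, m ∈ normalizer (F : Set G) → m ∈ R := fun F h1 h2 h3 m hm hmF =>
    ⟨hm, Ag.mono (SetLike.coe_subset_coe.mpr h1) (IH F (X.mu_lt_of_lt (lt_of_le_not_ge h1 h2)) h3 m
      (by rw [Cfsg.Lib.Transfer.map_conj_eq_self_iff.mpr hmF]; exact h3))⟩
  -- a normal subgroup of `M` inside `R`
  have hfrat : ∀ L : Subgroup G, L ≤ M → M ≤ normalizer (L : Set G) → L ≤ R → ¬ T ⊓ L ≤ E → M ≤ R :=
    fun L hLM hn hLR hnE => (hT.inf hLM hn).frattini_le hLM hn hLR fun m hm hmn =>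
      hext (E ⊔ (T ⊓ L)) le_sup_left (fun h => hnE (le_sup_right.trans h))
        (sup_le hES (inf_le_left.trans hTS)) m hm
        (le_normalizer_sup (K := M ⊓ normalizer ((T ⊓ L : Subgroup G) : Set G)) inf_le_left inf_le_right ⟨hm, hmn⟩)
  -- a normal subgroup whose elements of order prime to `p` fix `E`
  have hcopR : ∀ L : Subgroup G, L ≤ M → M ≤ normalizer (L : Set G) →
      (∀ x ∈ L, (orderOf x).Coprime p → ∀ e ∈ E, x * e * x⁻¹ = e) → L ≤ R :=
    fun L hLM hn h => (hT.inf hLM hn).le_of (inf_le_left.trans hTR) fun x hx hxp =>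
      ⟨hLM hx, ⟨1, one_mem _, fun e he => by rw [one_mul, inv_one, mul_one, h x hx hxp e he]⟩⟩
  -- `Z ≤ E`
  by_cases hZE : X.Z ≤ E
  swap
  · intro m hm
    exact hext (E ⊔ X.Z) le_sup_left (fun h => hZE (le_sup_right.trans h)) (sup_le hES X.Z_le) m hm
      (le_normalizer_sup le_rfl (fun y _ => le_normalizer_of_normal (mem_top y)) hm)
  -- the stabilizer of the chain `E ≥ Z`
  have hL : X.CV M E ≤ R := hcopR _ (X.CV_le M E) (X.le_normalizer_CV le_rfl) fun x hx hxp e he =>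
    X.commute_of_coprime_of_mem hxp ((X.mem_CV.mp hx).2 e he)
  by_cases hTL : T ⊓ X.CV M E ≤ E
  swap
  · exact hfrat _ (X.CV_le M E) (X.le_normalizer_CV le_rfl) hL hTL
  have hwM : X.w ∈ M := mem_normalizer_of_conj_le fun e he => by
    have h1 : ⁅X.w, e⁆ ∈ E := hZE (X.comm_mem_Z (X.hwS e (hES he)))
    have h2 := E.mul_mem h1 he
    rwa [commutatorElement_def, inv_mul_cancel_right] at h2
  have hwE : X.w ∈ E := hTL ⟨⟨X.w_mem, hwM⟩, X.mem_CV.mpr ⟨hwM, fun e he => X.comm_mem_Z (X.hwS e (hES he))⟩⟩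
  -- the centralizer of the image of the conjugates of `w`
  have hBE : X.Bsub M ≤ E := X.Bsub_le le_rfl hwE hZE
  set C := X.CV M (X.Bsub M)
  have hCn : M ≤ normalizer (C : Set G) := X.le_normalizer_CV (X.le_normalizer_Bsub M)
  have hCR : C ≤ R := fun c hc => ⟨X.CV_le _ _ hc, X.ag_Kw (X.CV_le_Kw M hc) hES (himgE c (X.CV_le _ _ hc))⟩
  by_cases hTC : T ⊓ C ≤ E
  swap
  · exact hfrat _ (X.CV_le _ _) hCn hCR hTC
  have hEC : T ⊓ C = E := le_antisymm hTC (le_inf hET fun e he =>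
    X.mem_CV.mpr ⟨le_normalizer he, fun b hb => X.commutator_Bsub le_rfl hES e he b hb⟩)
  -- the first quadratic case
  by_cases hJT : ∀ A ∈ maxAb (X.bar T), A ≤ X.bar E
  swap
  · exfalso
    push Not at hJT
    obtain ⟨A, hA, hAE⟩ := hJT
    refine X.quad_case hT hTS (hBE.trans hET) hA (hEC.symm ▸ hAE) fun F h1 h2 A' _ hA'n hA'F k hk hkF => ?_
    have hEF : E ≤ F := hEC.symm.le.trans h1
    have := hext F hEF (fun h => hA'n (hA'F.trans (map_mono (h.trans hEC.symm.le)))) (h2.trans hTS) k hk hkF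
    exact Ag.mono (SetLike.coe_subset_coe.mpr hBE) this.2
  -- the normalizer of `Y`
  set Y := X.Yof E
  set K := normalizer (Y : Set G)
  set P := (X.S : Subgroup G) ⊓ K
  have hMK : M ≤ K := X.normalizer_le_normalizer_Yof E
  have hTP : T ≤ P := le_inf hTS (inf_le_right.trans hMK)
  have hEP : E ≤ P := hET.trans hTP
  have hPS : P ≤ (X.S : Subgroup G) := inf_le_left
  have hYE : Y ≤ E := X.Yof_le hZE
  have hYS : Y ≤ (X.S : Subgroup G) := hYE.trans hES
  set C₁ := X.CV K Y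
  have hC₁n : K ≤ normalizer (C₁ : Set G) := X.le_normalizer_CV le_rfl
  -- elements of order prime to `p` centralizing `Y` centralize `E`
  have hL' : X.CV M Y ≤ R := hcopR _ (X.CV_le M Y) (X.le_normalizer_CV hMK) fun x hx hxp e he => by
    obtain ⟨hxM, hxY⟩ := X.mem_CV.mp hx
    have hfix : ∀ y ∈ Y, x * y * x⁻¹ = y := fun y hy => X.commute_of_coprime_of_mem hxp (hxY y hy)
    -- the commutator lies in `Y`
    have hxe : ⁅x, e⁆ ∈ E := by
      rw [commutatorElement_def]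
      exact E.mul_mem ((mem_normalizer_iff.mp hxM e).mp he) (E.inv_mem he)
    have hcent : ∀ y ∈ Y, ⁅x, e⁆ * y = y * ⁅x, e⁆ := by
      intro y hy
      have h1 : e⁻¹ * y * e ∈ Y := by
        simpa using (mem_normalizer_iff.mp (hMK (M.inv_mem (le_normalizer he))) y).mp hy
      have h2 := hfix _ h1
      have h3 := hfix y hy
      calc ⁅x, e⁆ * y = x * e * x⁻¹ * (e⁻¹ * y * e) * e⁻¹ := by rw [commutatorElement_def]; group
        _ = x * e * x⁻¹ * (x * (e⁻¹ * y * e) * x⁻¹) * e⁻¹ := by rw [h2]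
        _ = (x * y * x⁻¹) * (x * e * x⁻¹ * e⁻¹) := by group
        _ = y * ⁅x, e⁆ := by rw [h3, commutatorElement_def]
    have hY : ⁅x, e⁆ ∈ Y := by
      show X.π ⁅x, e⁆ ∈ X.Jb E
      obtain ⟨A, hA⟩ := maxAb_nonempty (T := X.bar E)
      haveI := hA.2.1
      refine X.le_Jb hA ?_
      haveI : IsMulCommutative (closure ((A : Set (G ⧸ X.Z)) ∪ {X.π ⁅x, e⁆})) := isMulCommutative_closure (by
        have hc : ∀ a ∈ A, a * X.π ⁅x, e⁆ = X.π ⁅x, e⁆ * a := by
          intro a ha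
          obtain ⟨y, hy, rfl⟩ := (X.bar_Yof E).ge (X.le_Jb hA ha)
          rw [← map_mul, ← map_mul, hcent y hy]
        rintro a (ha | rfl) b (hb | rfl)
        · exact congrArg Subtype.val (mul_comm' (⟨a, ha⟩ : A) ⟨b, hb⟩)
        · exact hc a ha
        · exact (hc b hb).symm
        · rfl)
      have e' := eq_of_le_of_card_ge (show A ≤ closure ((A : Set (G ⧸ X.Z)) ∪ {X.π ⁅x, e⁆}) from
        fun a ha => subset_closure (Or.inl ha))
        (hA.2.2 _ ((closure_le _).mpr (Set.union_subset hA.1 (by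
          rintro _ rfl; exact mem_map_of_mem _ hxe))) inferInstance)
      rw [e']
      exact subset_closure (Or.inr rfl)
    refine commute_of_coprime hxp ?_ (let ⟨k, hk⟩ := X.S.2 ⟨_, hYS hY⟩; ⟨k, congrArg Subtype.val hk⟩)
    show x * ⁅x, e⁆ = ⁅x, e⁆ * x
    exact mul_inv_eq_iff_eq_mul.mp (hfix _ hY)
  by_cases hTL' : T ⊓ X.CV M Y ≤ E
  swap
  · exact hfrat _ (X.CV_le M Y) (X.le_normalizer_CV hMK) hL' hTL'
  have hPcE : P ⊓ C₁ ≤ E := by
    by_contra hnot
    have hUP : E ⊔ (P ⊓ C₁) ≤ P := sup_le hEP inf_le_left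
    obtain ⟨x, hxU, hxN, hxE⟩ := normalizer_condition (hP.isP.to_le hUP)
      (lt_of_le_not_ge le_sup_left fun h => hnot (le_sup_right.trans h))
    have hEn : E ≤ normalizer ((P ⊓ C₁ : Subgroup G) : Set G) :=
      hEP.trans (le_normalizer_inf le_normalizer (inf_le_right.trans hC₁n))
    have hx' : x ∈ ((E ⊔ (P ⊓ C₁) : Subgroup G) : Set G) := hxU
    rw [coe_mul_of_left_le_normalizer_right E (P ⊓ C₁) hEn] at hx'
    obtain ⟨e, he, c, hc, rfl⟩ := hx'
    have hcM : c ∈ M := by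
      simpa using M.mul_mem (M.inv_mem (le_normalizer he)) hxN
    exact hxE (E.mul_mem he (hTL' ⟨⟨hPS hc.1, hcM⟩, X.mem_CV.mpr ⟨hcM, (X.mem_CV.mp hc.2).2⟩⟩))
  set Pc := P ⊓ C₁
  have hPc : E ⊓ C₁ = Pc := le_antisymm (le_inf (inf_le_left.trans hEP) inf_le_right) (le_inf hPcE inf_le_right)
  set K' := K ⊓ normalizer (Pc : Set G)
  have hMK' : M ≤ K' := le_inf hMK (hPc ▸ le_normalizer_inf le_rfl (hMK.trans hC₁n))
  have hPK' : P ≤ K' := le_inf inf_le_right (le_normalizer_inf le_normalizer (inf_le_right.trans hC₁n))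
  have hPsyl : SylIn p P K' := hP.mono hPK' inf_le_left
  have hwPc : X.w ∈ Pc := ⟨hEP hwE, X.mem_CV.mpr ⟨hMK hwM, fun y hy => X.comm_mem_Z (X.hwS y (hYS hy))⟩⟩
  have hZPc : X.Z ≤ Pc := le_inf (hZE.trans hEP) (X.Z_le_CV (hZE.trans (hEP.trans inf_le_right)))
  set B := X.Bsub K'
  have hBPc : B ≤ Pc := X.Bsub_le inf_le_right hwPc hZPc
  have hBP : B ≤ P := hBPc.trans inf_le_left
  set C' := X.CV K' B
  have hC'n : K' ≤ normalizer (C' : Set G) := X.le_normalizer_CV (X.le_normalizer_Bsub K')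
  have hYC' : Y ≤ C' := fun y hy => X.mem_CV.mpr ⟨hPK' (hEP (hYE hy)), fun b hb =>
    X.comm_mem_Z ((X.mem_CV.mp (hBPc hb).2).2 y hy)⟩
  set Pv := P ⊓ C'
  have hYPv : Y ≤ Pv := le_inf (hYE.trans hEP) hYC'
  have hBC' : B ≤ Pv := le_inf hBP fun b hb => X.mem_CV.mpr ⟨hPK' (hBP hb), fun b' hb' =>
    X.commutator_Bsub (X.le_normalizer_Bsub K') (hBP.trans hPS) b hb b' hb'⟩
  by_cases hJP : ∀ A ∈ maxAb (X.bar P), A ≤ X.bar Pv
  swap
  · exfalso
    push Not at hJP
    obtain ⟨A, hA, hAE⟩ := hJP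
    refine X.quad_case hPsyl hPS hBP hA hAE fun F h1 h2 A' hA' hA'n hA'F k hk hkF => ?_
    refine Ag.mono (SetLike.coe_subset_coe.mpr (hBC'.trans h1)) (IH F ?_ (h2.trans hPS) k ?_)
    · exact X.mu_lt_of_member hEP (X.bar_Yof E ▸ map_mono (hYPv.trans h1)) hA' hA'F
        fun h => hA'n (h.trans (X.bar_Yof E ▸ map_mono hYPv))
    · rw [Cfsg.Lib.Transfer.map_conj_eq_self_iff.mpr hkF]; exact h2.trans hPS
  -- decomposition of the elements of `M`
  have hC'syl : SylIn p Pv C' := hPsyl.inf (X.CV_le _ _) hC'n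
  have hPvn : P ≤ normalizer (Pv : Set G) := le_normalizer_inf le_normalizer (hPK'.trans hC'n)
  intro m hm
  obtain ⟨c', hc', hn'⟩ := hC'syl.exists_frattini hC'n (hMK' (M.inv_mem hm))
  set n := (c' * m⁻¹)⁻¹
  have hnN : n ∈ normalizer (Pv : Set G) := inv_mem hn'
  have hnK : n ∈ K' := K'.inv_mem (K'.mul_mem (X.CV_le _ _ hc') (hMK' (M.inv_mem hm)))
  have hmnc : m = n * c' := by simp [n]
  set W := (C' ⊔ P) ⊓ normalizer (Pv : Set G) ⊓ K'
  set X₁ := E.map (MulAut.conj c').toMonoidHom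
  have hX₁ : X₁ ≤ W := by
    rintro _ ⟨e, he, rfl⟩
    show c' * e * c'⁻¹ ∈ W
    refine ⟨⟨(C' ⊔ P).mul_mem ((C' ⊔ P).mul_mem (mem_sup_left hc') (mem_sup_right (hEP he)))
      (inv_mem (mem_sup_left hc')), ?_⟩, K'.mul_mem (K'.mul_mem (X.CV_le _ _ hc') (hPK' (hEP he))) (K'.inv_mem (X.CV_le _ _ hc'))⟩
    have h1 : m * e * m⁻¹ ∈ E := (mem_normalizer_iff.mp hm e).mp he
    rw [show c' * e * c'⁻¹ = n⁻¹ * (m * e * m⁻¹) * n⁻¹⁻¹ by rw [hmnc]; group]
    exact (normalizer (Pv : Set G)).mul_mem ((normalizer (Pv : Set G)).mul_mem ((normalizer (Pv : Set G)).inv_mem hnN) (hPvn (hEP h1)))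
      ((normalizer (Pv : Set G)).inv_mem ((normalizer (Pv : Set G)).inv_mem hnN))
  obtain ⟨r₀, hr₀, hr₀X⟩ := (hPsyl.mono (L := W) (le_inf (le_inf le_sup_right hPvn) hPK') inf_le_right).conj_into
    ((X.S.2.to_le hES).map _) hX₁
  set q := r₀ * c'
  set r := n * r₀⁻¹
  have hqmem : q ∈ C' ⊔ P := mul_mem hr₀.1.1 (mem_sup_left hc')
  set E₂ := E.map (MulAut.conj q).toMonoidHom
  have hE₂P : E₂ ≤ P := by
    rintro _ ⟨e, he, rfl⟩
    simpa [q, mul_assoc] using hr₀X ⟨_, ⟨e, he, rfl⟩, rfl⟩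
  have hrq : r * q = m := by simp [r, q, hmnc, mul_assoc]
  have hrE : E₂.map (MulAut.conj r).toMonoidHom ≤ E := by
    rintro _ ⟨_, ⟨e, he, rfl⟩, rfl⟩
    have h1 : m * e * m⁻¹ ∈ E := (mem_normalizer_iff.mp hm e).mp he
    rw [← hrq] at h1
    simpa [mul_assoc] using h1
  have hq : Ag X.H (E : Set G) q := X.ag_Kw (sup_le (X.CV_le_Kw K') (hPS.trans X.S_le_Kw) hqmem) hES (by
    rw [img_subgroup]; exact hE₂P.trans hPS)
  refine ⟨hm, ?_⟩
  by_cases hPvE : Pv ≤ E₂
  · -- `Y` is determined by `P`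
    have hY : X.Yof P = Y := by
      have h1 : X.Yof E₂ = Y := by
        rw [X.Yof_map]
        exact Cfsg.Lib.Transfer.map_conj_eq_self_iff.mpr
          ((sup_le (X.CV_le K' B) hPK' hqmem).1)
      rw [← h1, Yof, Yof, X.Jb_eq_of_le hE₂P fun A hA => (hJP A hA).trans (map_mono hPvE)]
    have hPS' : P = (X.S : Subgroup G) := by
      by_contra hne
      obtain ⟨x, hxS, hxN, hxP⟩ := normalizer_condition X.S.2 (lt_of_le_of_ne hPS hne)
      exact hxP ⟨hxS, show x ∈ normalizer (Y : Set G) from hY ▸ X.normalizer_le_normalizer_Yof P hxN⟩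
    by_cases hK' : K' = ⊤
    · by_cases hNv : normalizer (Pv : Set G) = ⊤
      · refine (X.terminal ?_ ?_).elim
        · have := hBP.trans hPS
          rwa [show B = X.Bsub ⊤ by simp only [B, hK']] at this
        · have := normalizer_eq_top_iff.mp hNv
          rwa [show Pv = (X.S : Subgroup G) ⊓ X.CV ⊤ (X.Bsub ⊤) by simp only [Pv, C', B, hK', hPS']] at this
      · have hr : r ∈ normalizer (Pv : Set G) := mul_mem hnN (inv_mem hr₀.1.2)
        rw [← hrq]
        refine hq.trans ?_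
        exact X.ind _ (hPS'.ge.trans hPvn) hNv r hr _ (hE₂P.trans hPS) (hrE.trans hES)
    · exact X.ind K' (hPS'.ge.trans hPK') hK' m (hMK' hm) _ hES (himgE m hm)
  · have hr : r ∈ normalizer (Pv : Set G) := mul_mem hnN (inv_mem hr₀.1.2)
    rw [← hrq]
    refine hq.trans (Ag.mono (SetLike.coe_subset_coe.mpr (le_sup_left : E₂ ≤ E₂ ⊔ Pv))
      (IH (E₂ ⊔ Pv) ?_ (sup_le (hE₂P.trans hPS) (inf_le_left.trans hPS)) r ?_))
    · rw [← X.mu_map E q]
      exact X.mu_lt_of_lt (lt_of_le_not_ge le_sup_left fun h => hPvE (le_sup_right.trans h))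
    · rw [Subgroup.map_sup, Cfsg.Lib.Transfer.map_conj_eq_self_iff.mpr hr]
      exact sup_le (hrE.trans hES) (inf_le_left.trans hPS)

set_option maxHeartbeats 1000000 in
/-- agreement on every subgroup of `S` -/
theorem psi_all : ∀ (n : ℕ) (E : Subgroup G), (Nat.card G + 1) ^ 3 - X.mu E = n → X.Psi E := by
  intro n
  induction n using Nat.strong_induction_on with
  | _ n ih =>
  intro E hn hES g hgE
  have IH : ∀ F : Subgroup G, X.mu E < X.mu F → X.Psi F := fun F hF =>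
    ih ((Nat.card G + 1) ^ 3 - X.mu F) (by have := X.mu_le F; omega) F rfl
  by_cases hEtop : E = (X.S : Subgroup G)
  · subst hEtop
    exact Ag.of_mem (normalizer_le_normalizer_zj _ (Cfsg.Lib.Transfer.map_conj_eq_self_iff.mp
      (eq_of_le_of_card_ge hgE (Cfsg.Lib.Transfer.card_map_conj _ g).ge)))
  -- the conjugates below `S`
  set 𝓔 : Set (Subgroup G) := {E' | E' ≤ (X.S : Subgroup G) ∧ ∃ a : G, E.map (MulAut.conj a).toMonoidHom = E'}
  let f₁ : Subgroup G → ℕ := fun E' => Nat.card ↥((X.S : Subgroup G) ⊓ normalizer (E' : Set G))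
  let f₂ : Subgroup G → ℕ := fun E' => Nat.card ↥((X.S : Subgroup G) ⊓ normalizer ((X.Yof E' : Subgroup G) : Set G))
  obtain ⟨E₀, ⟨hE₀S, a₀, ha₀⟩, hmax⟩ := Set.exists_max_image 𝓔
    (fun E' => f₁ E' * (Nat.card G + 1) + f₂ E') (Set.toFinite _) ⟨_, hgE, g, rfl⟩
  have hcomp : ∀ (D : Subgroup G) (a b : G), (D.map (MulAut.conj a).toMonoidHom).map (MulAut.conj b).toMonoidHom =
      D.map (MulAut.conj (b * a)).toMonoidHom := fun D a b => by
    rw [map_map]; congr 1; ext x; simp [mul_assoc]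
  have hinv : ∀ (D : Subgroup G) (a : G), (D.map (MulAut.conj a).toMonoidHom).map (MulAut.conj a⁻¹).toMonoidHom = D :=
    fun D a => by rw [hcomp, inv_mul_cancel]; convert Subgroup.map_id D; ext x; simp
  have hmu : X.mu E₀ = X.mu E := by rw [← ha₀, X.mu_map]
  have hbound : ∀ E' : Subgroup G, f₂ E' ≤ Nat.card G := fun E' => card_le_card_group _
  have hnorm : ∀ (D : Subgroup G) (a : G), (normalizer (D : Set G)).map (MulAut.conj a).toMonoidHom ≤
      normalizer ((D.map (MulAut.conj a).toMonoidHom : Subgroup G) : Set G) := fun D a =>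
    le_normalizer_map _
  have hT : SylIn p ((X.S : Subgroup G) ⊓ normalizer (E₀ : Set G)) (normalizer (E₀ : Set G)) := by
    refine ⟨inf_le_right, X.S.2.to_le inf_le_left, fun W hWN hW hle => ?_⟩
    obtain ⟨a, -, ha⟩ := exists_conj_into X.S (L := ⊤) le_top hW le_top
    have hE' : E₀.map (MulAut.conj a).toMonoidHom ∈ 𝓔 :=
      ⟨(map_mono ((le_inf hE₀S le_normalizer).trans hle)).trans ha, a * a₀, by rw [← hcomp, ha₀]⟩
    refine (eq_of_le_of_card_ge hle ?_).symm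
    have h1 : Nat.card W ≤ f₁ (E₀.map (MulAut.conj a).toMonoidHom) := by
      rw [← Cfsg.Lib.Transfer.card_map_conj W a]
      exact card_le_of_le (le_inf ha ((map_mono hWN).trans (hnorm _ a)))
    have h2 := hmax _ hE'
    have h3 := hbound E₀
    by_contra hlt
    push Not at hlt
    have h4 : f₁ E₀ + 1 ≤ f₁ (E₀.map (MulAut.conj a).toMonoidHom) := lt_of_lt_of_le hlt h1
    have h5 := Nat.mul_le_mul_right (Nat.card G + 1) h4
    linarith
  have hP : SylIn p ((X.S : Subgroup G) ⊓ normalizer ((X.Yof E₀ : Subgroup G) : Set G))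
      (normalizer ((X.Yof E₀ : Subgroup G) : Set G)) := by
    refine ⟨inf_le_right, X.S.2.to_le inf_le_left, fun W hWN hW hle => ?_⟩
    obtain ⟨a, -, ha⟩ := exists_conj_into X.S (L := ⊤) le_top hW le_top
    have hTW : (X.S : Subgroup G) ⊓ normalizer (E₀ : Set G) ≤ W :=
      (inf_le_inf_left _ (X.normalizer_le_normalizer_Yof E₀)).trans hle
    have hE' : E₀.map (MulAut.conj a).toMonoidHom ∈ 𝓔 :=
      ⟨(map_mono ((le_inf hE₀S le_normalizer).trans hTW)).trans ha, a * a₀, by rw [← hcomp, ha₀]⟩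
    refine (eq_of_le_of_card_ge hle ?_).symm
    have h1 : Nat.card W ≤ f₂ (E₀.map (MulAut.conj a).toMonoidHom) := by
      rw [← Cfsg.Lib.Transfer.card_map_conj W a]
      refine card_le_of_le (le_inf ha ?_)
      rw [X.Yof_map]
      exact (map_mono hWN).trans (hnorm _ a)
    have h0 : f₁ E₀ ≤ f₁ (E₀.map (MulAut.conj a).toMonoidHom) := by
      show Nat.card ↥((X.S : Subgroup G) ⊓ normalizer (E₀ : Set G)) ≤ _
      rw [← Cfsg.Lib.Transfer.card_map_conj _ a]
      exact card_le_of_le (le_inf ((map_mono hTW).trans ha) ((map_mono inf_le_right).trans (hnorm _ a)))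
    have h2 := hmax _ hE'
    have h3 := Nat.mul_le_mul_right (Nat.card G + 1) h0
    show Nat.card W ≤ f₂ E₀
    omega
  -- conjugation into the chosen one
  have hmove : ∀ E' ∈ 𝓔, ∃ h : G, Ag X.H (E' : Set G) h ∧ E'.map (MulAut.conj h).toMonoidHom = E₀ := by
    rintro E' ⟨hE'S, b, hb⟩
    have hE'top : E' < (X.S : Subgroup G) := lt_of_le_of_ne hE'S fun e => hEtop (eq_of_le_of_card_ge hES
      (by rw [← e, ← hb, Cfsg.Lib.Transfer.card_map_conj]))
    obtain ⟨x, hxS, hxN, hxE⟩ := normalizer_condition X.S.2 hE'top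
    set N' := (X.S : Subgroup G) ⊓ normalizer (E' : Set G)
    have hEN : E' < N' := lt_of_le_not_ge (le_inf hE'S le_normalizer) fun h => hxE (h ⟨hxS, hxN⟩)
    have hg₀ : E'.map (MulAut.conj (a₀ * b⁻¹)).toMonoidHom = E₀ := by
      rw [← hcomp, ← hb, hinv, ha₀]
    obtain ⟨r, hr, hle⟩ := hT.conj_into ((X.S.2.to_le (inf_le_left : N' ≤ _)).map (MulAut.conj (a₀ * b⁻¹)).toMonoidHom)
      (hg₀ ▸ (map_mono inf_le_right).trans (hnorm E' _))
    have he : E'.map (MulAut.conj (r * (a₀ * b⁻¹))).toMonoidHom = E₀ := by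
      rw [← hcomp, hg₀, Cfsg.Lib.Transfer.map_conj_eq_self_iff.mpr hr]
    refine ⟨r * (a₀ * b⁻¹), Ag.mono (SetLike.coe_subset_coe.mpr hEN.le) (IH N' ?_ inf_le_left _ ?_), he⟩
    · have : X.mu E' = X.mu E := by rw [← hb, X.mu_map]
      exact this ▸ X.mu_lt_of_lt hEN
    · rw [← hcomp]
      exact hle.trans inf_le_left
  obtain ⟨h₁, hag₁, he₁⟩ := hmove E ⟨hES, 1, by convert Subgroup.map_id E; ext x; simp⟩
  obtain ⟨h₂, hag₂, he₂⟩ := hmove _ ⟨hgE, g, rfl⟩
  have hm : h₂ * g * h₁⁻¹ ∈ normalizer (E₀ : Set G) := by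
    refine Cfsg.Lib.Transfer.map_conj_eq_self_iff.mp ?_
    conv_lhs => rw [← he₁, hcomp, inv_mul_cancel_right]
    rw [← hcomp, he₂]
  have hcore := (X.core hE₀S (fun F hF => IH F (hmu ▸ hF)) hT hP hm).2
  have h3 : Ag X.H (E : Set G) (h₂ * g * h₁⁻¹ * h₁) := hag₁.trans (by rw [img_subgroup, he₁]; exact hcore)
  rw [inv_mul_cancel_right] at h3
  have h4 : Ag X.H (img (h₂ * g) (E : Set G)) h₂⁻¹ := by
    rw [img_subgroup, ← hcomp]
    exact hag₂.inv
  have h5 := h3.trans h4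
  rwa [inv_mul_cancel_left] at h5

theorem agrees : Agrees X.S := by
  intro A g hA hgA
  set E := (X.S : Subgroup G) ⊓ (X.S : Subgroup G).comap (MulAut.conj g).toMonoidHom
  refine Ag.mono (B := (E : Set G)) (fun a ha => ⟨hA ha, hgA ⟨a, ha, rfl⟩⟩) ?_
  exact X.psi_all _ E rfl inf_le_left g (map_le_iff_le_comap.mpr inf_le_right)

end Setup

end Cfsg.Lib.ZJFail
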