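import Cfsg.Agent.Quadratic.SLTwoAlgebra
import Cfsg.Agent.Transfer.Basic
import Cfsg.Prelude.Def_LocalEven
import Mathlib.GroupTheory.Sylow

/-!
The group `F` as a section: a Borel subgroup of `SL₂(p)` acting on a plane section.
-/

set_option autoImplicit false
set_option linter.unusedSectionVars false

namespace Cfsg.Lib.ZJFail

open Matrix

variable {p : ℕ} [Fact p.Prime] {G : Type*} [Group G] [Finite G]

/-- the upper triangular matrix of size three -/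
def triMat (M : Matrix.SpecialLinearGroup (Fin 2) (ZMod p)) (v : Fin 2 → ZMod p) :
    Matrix.SpecialLinearGroup (Fin 3) (ZMod p) :=
  ⟨!![M.1 0 0, M.1 0 1, v 0; M.1 1 0, M.1 1 1, v 1; 0, 0, 1], by
    have h := SLTwoSub.det_eq M
    rw [Matrix.det_fin_three]
    simp
    linear_combination h⟩

theorem triMat_mul (M N : Matrix.SpecialLinearGroup (Fin 2) (ZMod p)) (v w : Fin 2 → ZMod p) :
    triMat M v * triMat N w = triMat (M * N) (v + M.1 *ᵥ w) := by
  apply Subtype.ext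
  rw [Matrix.SpecialLinearGroup.coe_mul]
  ext i j
  fin_cases i <;> fin_cases j <;>
    simp [triMat, Matrix.mul_apply, Fin.sum_univ_three, Fin.sum_univ_two, SLTwoSub.mulVec_two] <;> ring

theorem involves_f (hp : p ≠ 2) (U : Subgroup G) (hU : IsPGroup p U)
    (ψ : U →* Multiplicative (Fin 2 → ZMod p)) (hψ : Function.Surjective ψ) (u : (ZMod p)ˣ)
    (hu : ∀ x : (ZMod p)ˣ, x ∈ Subgroup.zpowers u) (x a : G)
    (ha : ∀ b : U, ∃ h : a * b * a⁻¹ ∈ U, (ψ ⟨_, h⟩).toAdd = !![1, 1; 0, 1] *ᵥ (ψ b).toAdd)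
    (hx : ∀ b : U, ∃ h : x * b * x⁻¹ ∈ U,
      (ψ ⟨_, h⟩).toAdd = !![(u : ZMod p), 0; 0, ((u⁻¹ : (ZMod p)ˣ) : ZMod p)] *ᵥ (ψ b).toAdd) :
    Cfsg.Involves ↥(Cfsg.fOver (ZMod p)) G := by
  classical
  have hpp : p.Prime := Fact.out
  let R : G → Matrix.SpecialLinearGroup (Fin 2) (ZMod p) → Prop := fun g M => M.1 1 0 = 0 ∧
    ∀ b : U, ∃ h : g * b * g⁻¹ ∈ U, (ψ ⟨_, h⟩).toAdd = M.1 *ᵥ (ψ b).toAdd
  have huniq : ∀ g M M', R g M → R g M' → M = M' := by
    intro g M M' h h'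
    apply Subtype.ext
    refine Matrix.ext_of_mulVec_single fun i => ?_
    obtain ⟨b, hb⟩ := hψ (Multiplicative.ofAdd (Pi.single i 1))
    obtain ⟨_, e1⟩ := h.2 b
    obtain ⟨_, e2⟩ := h'.2 b
    have := e1.symm.trans e2
    rwa [hb] at this
  have hmul : ∀ g h M N, R g M → R h N → R (g * h) (M * N) := by
    intro g h M N hg hh
    refine ⟨by rw [SLTwoSub.mul_entries, hg.1, hh.1]; ring, fun b => ?_⟩
    obtain ⟨h1, e1⟩ := hh.2 b
    obtain ⟨h2, e2⟩ := hg.2 ⟨_, h1⟩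
    have e : g * h * b * (g * h)⁻¹ = g * (h * b * h⁻¹) * g⁻¹ := by group
    refine ⟨e ▸ h2, ?_⟩
    rw [Matrix.SpecialLinearGroup.coe_mul, ← mulVec_mulVec, ← e1, ← e2]
    exact congrArg (fun y => (ψ y).toAdd) (Subtype.ext e)
  have hone : R 1 1 := ⟨by simp, fun b => ⟨by simp, by simp⟩⟩
  let H₁ : Subgroup G :=
    { carrier := {g | ∃ M, R g M}
      one_mem' := ⟨1, hone⟩
      mul_mem' := fun {g h} ⟨M, hM⟩ ⟨N, hN⟩ => ⟨M * N, hmul _ _ _ _ hM hN⟩
      inv_mem' := fun {g} ⟨M, hM⟩ => by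
        obtain ⟨m, hm⟩ : ∃ m : ℕ, g⁻¹ = g ^ m := by
          refine ⟨orderOf g - 1, inv_eq_of_mul_eq_one_right ?_⟩
          rw [← pow_succ', Nat.sub_add_cancel (orderOf_pos g), pow_orderOf_eq_one]
        rw [hm]
        clear hm
        induction m with
        | zero => exact ⟨1, by rw [pow_zero]; exact hone⟩
        | succ m ih =>
          obtain ⟨N, hN⟩ := ih
          exact ⟨N * M, by rw [pow_succ]; exact hmul _ _ _ _ hN hM⟩ }
  choose M₀ hM₀ using fun g : H₁ => g.2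
  let M : H₁ →* Matrix.SpecialLinearGroup (Fin 2) (ZMod p) :=
    MonoidHom.mk' M₀ fun g h => huniq _ _ _ (hM₀ _) (hmul _ _ _ _ (hM₀ g) (hM₀ h))
  have hM : ∀ g : H₁, R g (M g) := hM₀
  let Ua : Matrix.SpecialLinearGroup (Fin 2) (ZMod p) := ⟨!![1, 1; 0, 1], by simp [det_fin_two]⟩
  let Dx : Matrix.SpecialLinearGroup (Fin 2) (ZMod p) :=
    ⟨!![(u : ZMod p), 0; 0, ((u⁻¹ : (ZMod p)ˣ) : ZMod p)], by
      rw [det_fin_two_of, mul_zero, sub_zero, ← Units.val_mul, mul_inv_cancel, Units.val_one]⟩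
  have hRa : R a Ua := ⟨by simp [Ua], ha⟩
  have hRx : R x Dx := ⟨rfl, hx⟩
  have hUaM : Ua ∈ M.range := ⟨⟨a, Ua, hRa⟩, huniq _ _ _ (hM _) hRa⟩
  have hDxM : Dx ∈ M.range := ⟨⟨x, Dx, hRx⟩, huniq _ _ _ (hM _) hRx⟩
  -- every upper triangular matrix
  have hsurj : ∀ N : Matrix.SpecialLinearGroup (Fin 2) (ZMod p), N.1 1 0 = 0 → N ∈ M.range := by
    intro N hN
    have hd := SLTwoSub.det_eq N
    rw [hN, mul_zero, sub_zero] at hd
    obtain ⟨i, hi⟩ := Subgroup.mem_zpowers_iff.mp (hu (Units.mkOfMulEqOne _ _ hd))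
    obtain ⟨i', hi'⟩ : ∃ i' : ℕ, u ^ i' = u ^ i :=
      (mem_powers_iff_mem_zpowers.mpr ⟨i, rfl⟩)
    have hDpow : ∀ m : ℕ, (Dx ^ m).1 = !![((u ^ m : (ZMod p)ˣ) : ZMod p), 0; 0, (((u ^ m)⁻¹ : (ZMod p)ˣ) : ZMod p)] := by
      intro m
      induction m with
      | zero => simp [Matrix.one_fin_two]
      | succ m ih =>
        rw [pow_succ, Matrix.SpecialLinearGroup.coe_mul, ih]
        simp only [Dx, Matrix.mul_fin_two, mul_zero, zero_mul, add_zero, zero_add]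
        rw [pow_succ u m, _root_.mul_inv_rev, mul_comm u⁻¹, Units.val_mul, Units.val_mul]
    have hUpow : ∀ m : ℕ, (Ua ^ m).1 = !![1, (m : ZMod p); 0, 1] := by
      intro m
      induction m with
      | zero => simp [Matrix.one_fin_two]
      | succ m ih =>
        rw [pow_succ, Matrix.SpecialLinearGroup.coe_mul, ih]
        simp [Ua, Matrix.mul_fin_two, add_comm]
    have e : N = Ua ^ (N.1 0 1 * N.1 0 0).val * Dx ^ i' := by
      apply Subtype.ext
      rw [Matrix.SpecialLinearGroup.coe_mul, hUpow, hDpow, hi', hi, ZMod.natCast_zmod_val, Matrix.mul_fin_two]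
      ext k l
      fin_cases k <;> fin_cases l
      · simp
      · simp [mul_assoc, hd, Units.mkOfMulEqOne]
      · simp [hN]
      · simp [Units.mkOfMulEqOne]
    rw [e]
    exact mul_mem (pow_mem hUaM _) (pow_mem hDxM _)
  -- the central involution
  let m1 : Matrix.SpecialLinearGroup (Fin 2) (ZMod p) := ⟨!![-1, 0; 0, -1], by simp [det_fin_two]⟩
  have hm1 : m1 * m1 = 1 := by
    apply Subtype.ext
    rw [Matrix.SpecialLinearGroup.coe_mul]
    simp [m1, Matrix.mul_fin_two, Matrix.one_fin_two]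
  obtain ⟨g₀, hg₀⟩ := hsurj m1 (by simp [m1])
  haveI : Fact (Nat.Prime 2) := ⟨Nat.prime_two⟩
  obtain ⟨t, b₀, ht1, hb1, htb, ⟨j, hj⟩, hb₀⟩ := Cfsg.Lib.Transfer.exists_pPart 2 g₀
  have hMt : M t = m1 := by
    have hcomm : Commute (M t) (M b₀) := by
      have h1 : Commute t b₀ := by
        obtain ⟨i, rfl⟩ := Subgroup.mem_zpowers_iff.mp ht1
        obtain ⟨l, rfl⟩ := Subgroup.mem_zpowers_iff.mp hb1
        exact Commute.zpow_zpow (Commute.refl g₀) i l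
      exact h1.map M
    have hb : M b₀ = 1 := by
      refine orderOf_eq_one_iff.mp (Nat.eq_one_of_dvd_coprimes (hb₀.pow_right (j + 1)) (orderOf_map_dvd M b₀)
        (orderOf_dvd_of_pow_eq_one ?_))
      have h6 : M g₀ ^ 2 ^ (j + 1) = 1 := by rw [hg₀, pow_succ', pow_mul, pow_two, hm1, one_pow]
      have ht : M t ^ 2 ^ (j + 1) = 1 := by
        rw [pow_succ, pow_mul, ← map_pow, ← hj, pow_orderOf_eq_one, map_one, one_pow]
      rwa [← htb, map_mul, hcomm.mul_pow, ht, one_mul] at h6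
    rw [← hg₀, ← htb, map_mul, hb, mul_one]
  -- Frattini
  let Pm : Subgroup (Matrix.SpecialLinearGroup (Fin 2) (ZMod p)) := Subgroup.zpowers m1
  haveI : Pm.Normal := by
    refine ⟨fun z hz g => ?_⟩
    obtain ⟨i, rfl⟩ := Subgroup.mem_zpowers_iff.mp hz
    have hc : g * m1 * g⁻¹ = m1 := by
      have h1 : m1 * g = g * m1 := SLTwoSub.IsScal.comm ⟨by simp [m1], by simp [m1], by simp [m1]⟩ g
      rw [← h1, mul_inv_cancel_right]
    rw [← conj_zpow, hc]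
    exact Subgroup.zpow_mem_zpowers _ _
  let H₂ : Subgroup H₁ := Pm.comap M
  have hz : IsPGroup 2 (Subgroup.zpowers (⟨t, show M t ∈ Pm from hMt ▸ Subgroup.mem_zpowers m1⟩ : H₂)) :=
    IsPGroup.of_card (n := j) (by rw [Nat.card_zpowers]; exact (Subgroup.orderOf_coe _).symm.trans hj)
  obtain ⟨T₂, hT₂⟩ := hz.exists_le_sylow
  set TT := (T₂ : Subgroup H₂).map H₂.subtype with hTT
  set Y := Subgroup.normalizer (TT : Set H₁)
  have hfr : Y ⊔ H₂ = ⊤ := Sylow.normalizer_sup_eq_top T₂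
  have htTT : t ∈ TT := ⟨_, hT₂ (Subgroup.mem_zpowers _), rfl⟩
  have hYsurj : ∀ N : Matrix.SpecialLinearGroup (Fin 2) (ZMod p), N.1 1 0 = 0 → ∃ y ∈ Y, M y = N := by
    intro N hN
    obtain ⟨g, rfl⟩ := hsurj N hN
    obtain ⟨y, hy, r, hr, rfl⟩ := Subgroup.mem_sup_of_normal_right.mp (hfr.ge (Subgroup.mem_top g))
    obtain ⟨i, hi⟩ := Subgroup.mem_zpowers_iff.mp (show M r ∈ Pm from hr)
    refine ⟨y * t ^ i, Y.mul_mem hy (Y.zpow_mem (Subgroup.le_normalizer htTT) i), ?_⟩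
    rw [map_mul, map_mul, map_zpow, hMt, hi]
  -- the complement meets the kernel trivially
  have hMU : ∀ b : U, ∃ h : (b : G) ∈ H₁, M ⟨b, h⟩ = 1 := by
    intro b
    have hb : R b 1 := ⟨by simp, fun c => ?_⟩
    · exact ⟨⟨1, hb⟩, huniq _ _ _ (hM _) hb⟩
    refine ⟨U.mul_mem (U.mul_mem b.2 c.2) (U.inv_mem b.2), ?_⟩
    rw [show (⟨(b : G) * c * (b : G)⁻¹, U.mul_mem (U.mul_mem b.2 c.2) (U.inv_mem b.2)⟩ : U) = b * c * b⁻¹ from rfl,
      map_mul ψ, map_mul ψ, map_inv, mul_comm (ψ b), mul_inv_cancel_right]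
    simp
  have hYU : ∀ b : U, ∀ y ∈ Y, (y : G) = b → ψ b = 1 := by
    intro b y hy hyb
    obtain ⟨h1, e1⟩ := (hM t).2 b
    have hw1 : (t : G) * b * (t : G)⁻¹ * (b : G)⁻¹ ∈ U := U.mul_mem h1 (U.inv_mem b.2)
    have hw2 : t * y * t⁻¹ * y⁻¹ ∈ TT := by
      have h3 : y * t⁻¹ * y⁻¹ ∈ TT := (Subgroup.mem_normalizer_iff.mp hy _).mp (TT.inv_mem htTT)
      have h4 := TT.mul_mem htTT h3
      simpa [mul_assoc] using h4
    have hw : t * y * t⁻¹ * y⁻¹ = 1 := by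
      obtain ⟨i, hi⟩ := (T₂.2.map H₂.subtype) ⟨_, hw2⟩
      obtain ⟨l, hl⟩ := hU ⟨_, hw1⟩
      have hi' := congrArg (fun z : TT => ((z : H₁) : G)) hi
      have hl' := congrArg (fun z : U => (z : G)) hl
      refine Subtype.ext ?_
      simp only [SubgroupClass.coe_pow, OneMemClass.coe_one, Subgroup.coe_mul, Subgroup.coe_inv, hyb] at hi' hl' ⊢
      exact orderOf_eq_one_iff.mp (Nat.eq_one_of_dvd_coprimes
        (((Nat.coprime_primes Nat.prime_two hpp).mpr (Ne.symm hp)).pow i l) (orderOf_dvd_of_pow_eq_one hi')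
        (orderOf_dvd_of_pow_eq_one hl'))
    have hw' : (t : G) * b * (t : G)⁻¹ = b := by
      have := congrArg (fun z : H₁ => (z : G)) hw
      simp only [Subgroup.coe_mul, Subgroup.coe_inv, OneMemClass.coe_one, hyb] at this
      exact mul_inv_eq_one.mp this
    rw [show (⟨_, h1⟩ : U) = b from Subtype.ext hw', hMt] at e1
    refine Multiplicative.toAdd.injective (funext fun i => ?_)
    have h2 : (ψ b).toAdd i = - (ψ b).toAdd i := by
      conv_lhs => rw [e1]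
      fin_cases i <;> simp [m1, SLTwoSub.mulVec_two]
    have h3 : (2 : ZMod p) * (ψ b).toAdd i = 0 := by linear_combination h2
    have h4 : (2 : ZMod p) ≠ 0 := by
      intro h
      have : ((2 : ℕ) : ZMod p) = 0 := by simpa using h
      exact hp ((Nat.prime_dvd_prime_iff_eq hpp Nat.prime_two).mp ((CharP.cast_eq_zero_iff (ZMod p) p 2).mp this))
    exact (mul_eq_zero.mp h3).resolve_left h4
  -- the epimorphism
  set Y' := Y.map H₁.subtype
  have hY'N : Y' ≤ Subgroup.normalizer (U : Set G) := by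
    rintro _ ⟨y, -, rfl⟩
    refine Cfsg.Lib.Transfer.map_conj_eq_self_iff.mp
      (Subgroup.eq_of_le_of_card_ge ?_ (Cfsg.Lib.Transfer.card_map_conj U _).ge)
    rintro _ ⟨b, hb, rfl⟩
    exact ((hM y).2 ⟨b, hb⟩).1
  have hdec : ∀ g : (U ⊔ Y' : Subgroup G), ∃ (b : U) (y : H₁), y ∈ Y ∧ (g : G) = b * y := by
    intro g
    have hg : (g : G) ∈ ((U ⊔ Y' : Subgroup G) : Set G) := g.2
    rw [Subgroup.coe_mul_of_right_le_normalizer_left U Y' hY'N] at hg
    obtain ⟨b, hb, _, ⟨y, hy, rfl⟩, e⟩ := hg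
    exact ⟨⟨b, hb⟩, y, hy, e.symm⟩
  choose fb fy hfy hfe using hdec
  let Φ₀ : (U ⊔ Y' : Subgroup G) → Matrix.SpecialLinearGroup (Fin 3) (ZMod p) :=
    fun g => triMat (M (fy g)) (ψ (fb g)).toAdd
  have hval : ∀ (g : (U ⊔ Y' : Subgroup G)) (b : U) (y : H₁), y ∈ Y → (g : G) = b * y →
      Φ₀ g = triMat (M y) (ψ b).toAdd := by
    intro g b y hy e
    have h2 : ((fy g * y⁻¹ : H₁) : G) = ((fb g)⁻¹ * b : U) := by
      have h1 := (hfe g).symm.trans e
      rw [Subgroup.coe_mul, Subgroup.coe_inv, Subgroup.coe_mul, Subgroup.coe_inv]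
      calc (fy g : G) * (y : G)⁻¹ = (fb g : G)⁻¹ * ((fb g : G) * (fy g : G)) * (y : G)⁻¹ := by group
        _ = _ := by rw [h1]; group
    have h3 := hYU _ _ (Y.mul_mem (hfy g) (Y.inv_mem hy)) h2
    rw [map_mul, map_inv, inv_mul_eq_one] at h3
    obtain ⟨h4, h5⟩ := hMU ((fb g)⁻¹ * b)
    have h6 : M (fy g * y⁻¹) = 1 := by
      rw [show fy g * y⁻¹ = ⟨_, h4⟩ from Subtype.ext h2, h5]
    rw [map_mul, map_inv, mul_inv_eq_one] at h6
    simp only [Φ₀, h6, h3]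
  let Φ : (U ⊔ Y' : Subgroup G) →* Matrix.SpecialLinearGroup (Fin 3) (ZMod p) :=
    MonoidHom.mk' Φ₀ fun g g' => by
      obtain ⟨h1, e1⟩ := (hM (fy g)).2 (fb g')
      rw [hval (g * g') (fb g * ⟨_, h1⟩) (fy g * fy g') (Y.mul_mem (hfy g) (hfy g')) (by
        rw [Subgroup.coe_mul, Subgroup.coe_mul, Subgroup.coe_mul, hfe g, hfe g']; group)]
      show _ = triMat _ _ * triMat _ _
      rw [triMat_mul, map_mul, map_mul, toAdd_mul, e1]
  have hrange : Φ.range = Cfsg.fOver (ZMod p) := by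
    refine le_antisymm ?_ ((Subgroup.closure_le _).mpr ?_)
    · rintro _ ⟨g, rfl⟩
      refine Subgroup.subset_closure ⟨?_, ?_, ?_, ?_⟩
      · exact (hM (fy g)).1
      all_goals rfl
    · rintro N ⟨h10, h20, h21, h22⟩
      have hdet : N.1 0 0 * N.1 1 1 = 1 := by
        have h := N.2
        rw [Matrix.det_fin_three, h10, h20, h21, h22] at h
        linear_combination h
      let N' : Matrix.SpecialLinearGroup (Fin 2) (ZMod p) :=
        ⟨!![N.1 0 0, N.1 0 1; 0, N.1 1 1], by simp [det_fin_two, hdet]⟩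
      obtain ⟨y, hy, hyN⟩ := hYsurj N' (by simp [N'])
      obtain ⟨b, hb⟩ := hψ (Multiplicative.ofAdd ![N.1 0 2, N.1 1 2])
      refine ⟨⟨b * y, Subgroup.mul_mem _ (Subgroup.mem_sup_left b.2) (Subgroup.mem_sup_right ⟨y, hy, rfl⟩)⟩, ?_⟩
      show Φ₀ _ = N
      rw [hval _ b y hy rfl, hyN, hb]
      apply Subtype.ext
      ext i j
      fin_cases i <;> fin_cases j <;> simp [triMat, N', h10, h20, h21, h22]
  let e : (U ⊔ Y' : Subgroup G) ⧸ Φ.ker ≃* ↥(Cfsg.fOver (ZMod p)) :=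
    (QuotientGroup.quotientKerEquivRange Φ).trans (MulEquiv.subgroupCongr hrange)
  have hker : (Φ.ker.map (U ⊔ Y' : Subgroup G).subtype).subgroupOf (U ⊔ Y') = Φ.ker :=
    Subgroup.comap_map_eq_self_of_injective (Subgroup.subtype_injective _) _
  have hn : ((Φ.ker.map (U ⊔ Y' : Subgroup G).subtype).subgroupOf (U ⊔ Y')).Normal := by
    rw [hker]; exact Φ.normal_ker
  exact ⟨U ⊔ Y', Φ.ker.map (U ⊔ Y' : Subgroup G).subtype, hn,
    ⟨(QuotientGroup.quotientMulEquivOfEq hker).trans e⟩⟩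

end Cfsg.Lib.ZJFail
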