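import Cfsg.Agent.Components.ZJFail.Basic
import Cfsg.Agent.Components.ZJFail.Involve
import Cfsg.Agent.Quadratic.StableQd

/-!
A quadratic element on the image of `B` gives the conclusion.
-/

set_option autoImplicit false
set_option linter.unusedSectionVars false
set_option linter.style.haveILetI false

namespace Cfsg.Lib.ZJFail

open Subgroup Matrix
open Cfsg.Lib.CtrlD (Ag)
open Cfsg.Lib.Control (img)
open scoped commutatorElement

universe u

variable {p : ℕ} [Fact p.Prime] {G : Type u} [Group G] [Finite G] (X : Setup p G)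

/-- coordinates on the image of a subgroup `B` -/
theorem Setup.exists_action {K B : Subgroup G} (hBK : B ≤ K) (hKB : K ≤ normalizer (B : Set G))
    (hel : Cfsg.IsElementaryAbelian p (B.map X.π)) :
    ∃ (n : ℕ) (ρ : K →* Matrix (Fin n) (Fin n) (ZMod p))
      (ι : Multiplicative (Fin n → ZMod p) →* G ⧸ X.Z),
      Function.Injective ι ∧ ι.range = B.map X.π ∧
        ∀ (k : K) (x : Fin n → ZMod p),
          ι (Multiplicative.ofAdd (ρ k *ᵥ x)) = X.π k * ι (Multiplicative.ofAdd x) * (X.π k)⁻¹ := by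
  set Kq := K.map X.π
  set V := (B.map X.π).subgroupOf Kq
  haveI : V.Normal := (normal_subgroupOf_iff_le_normalizer (map_mono hBK)).mpr
    ((map_mono hKB).trans (le_normalizer_map X.π))
  haveI := hel.1
  have hV : Cfsg.IsElementaryAbelian p V := by
    refine ⟨⟨⟨fun a b => Subtype.ext (Subtype.ext ?_)⟩⟩, fun a ha => Subtype.ext ?_⟩
    · have h1 := congrArg Subtype.val (mul_comm' (⟨((a : Kq) : G ⧸ X.Z), a.2⟩ : B.map X.π) ⟨((b : Kq) : G ⧸ X.Z), b.2⟩)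
      simpa using h1
    · rw [SubgroupClass.coe_pow]; exact hel.2 _ ha
  obtain ⟨n, ρ, ι, hι, hιV, hρι⟩ := Cfsg.Lib.QuadPair.exists_coords V hV
  refine ⟨n, ρ.comp (X.π.subgroupMap K), Kq.subtype.comp ι, Kq.subtype_injective.comp hι, ?_, fun k x => ?_⟩
  · rw [MonoidHom.range_comp, hιV, map_subgroupOf_eq_of_le (map_mono hBK)]
  · exact congrArg Subtype.val (hρι _ x)

set_option maxHeartbeats 1000000 in
/-- **a quadratic element gives the conclusion** -/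
theorem Setup.false_of_quadratic {K P : Subgroup G} (hPK : P ≤ K) (hPS : P ≤ (X.S : Subgroup G))
    (hPmax : ∀ W : Subgroup G, W ≤ K → IsPGroup p W → P ≤ W → W = P) (hBP : X.Bsub K ≤ P)
    {A : Subgroup G} (hAP : A ≤ P) (hAC : ¬ A ≤ X.CV K (X.Bsub K))
    (hq : ∀ a ∈ A, ∀ b ∈ X.Bsub K, ⁅a, ⁅a, b⁆⁆ ∈ X.Z)
    (hF : ∀ F : Subgroup G, P ⊓ X.CV K (X.Bsub K) ≤ F → F ≤ P → P ≤ normalizer (F : Set G) → A ≤ F →
      ¬ K ≤ normalizer (F : Set G) →
        ∀ k ∈ K, k ∈ normalizer (F : Set G) → Ag X.H ((X.Bsub K : Subgroup G) : Set G) k) : False := by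
  classical
  set B := X.Bsub K with hB
  have hBS : B ≤ (X.S : Subgroup G) := hBP.trans hPS
  have hKB : K ≤ normalizer (B : Set G) := X.le_normalizer_Bsub K
  have hel := X.Bsub_elementary hBS
  obtain ⟨n, ρ, ι, hι, hιB, hρι⟩ := X.exists_action (hBP.trans hPK) hKB hel
  -- the acting group
  set Q := ρ.toHomUnits.range
  let f : K →* Q := ρ.toHomUnits.rangeRestrict
  have hf : Function.Surjective f := ρ.toHomUnits.rangeRestrict_surjective
  let ρQ : Q →* Matrix (Fin n) (Fin n) (ZMod p) := (Units.coeHom _).comp Q.subtype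
  have hρQ : Function.Injective ρQ := fun a b h => Subtype.ext (Units.ext h)
  have hρf : ∀ k : K, ρQ (f k) = ρ k := fun k => rfl
  haveI : Finite Q := Finite.of_surjective f hf
  have hker : ∀ k : K, f k = 1 ↔ (k : G) ∈ X.CV K B := by
    intro k
    rw [X.mem_CV, and_iff_right k.2]
    constructor
    · intro h b hb
      obtain ⟨x, hx⟩ := hιB.ge (mem_map_of_mem X.π hb)
      rw [← X.π_eq_one, map_commutatorElement, commutatorElement_eq_one_iff_mul_comm, ← hx, ← mul_inv_eq_iff_eq_mul]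
      have h1 := hρι k x.toAdd
      rw [← hρf, h, map_one, one_mulVec] at h1
      exact h1.symm
    · intro h
      refine hρQ (Matrix.ext_of_mulVec_single fun i => Multiplicative.ofAdd.injective (hι ?_))
      rw [hρf, hρι, map_one, one_mulVec]
      obtain ⟨b, hb, hb'⟩ := hιB.le ⟨Multiplicative.ofAdd (Pi.single i 1), rfl⟩
      have h1 := X.π_eq_one.mpr (h b hb)
      rw [map_commutatorElement, commutatorElement_eq_one_iff_mul_comm, hb'] at h1
      rw [h1, mul_inv_cancel_right]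
  -- agreement
  have hCVag : ∀ c ∈ X.CV K B, Ag X.H (B : Set G) c := fun c hc => by
    refine X.ag_Kw (X.CV_le_Kw K hc) hBS ?_
    rw [img_subgroup, Cfsg.Lib.Transfer.map_conj_eq_self_iff.mpr (hKB (X.CV_le K B hc))]
    exact hBS
  set R₀ := (agreeGroup X.H K B hKB).subgroupOf K with hR₀
  have hkerR : f.ker ≤ R₀ := fun k hk => ⟨k.2, hCVag _ ((hker k).mp hk)⟩
  set R := R₀.map f
  have hR : ∀ {k : K}, f k ∈ R → Ag X.H (B : Set G) (k : G) := by
    intro k hk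
    have h1 : k ∈ R.comap f := hk
    rw [comap_map_eq_self hkerR] at h1
    exact h1.2
  -- the Sylow subgroup
  let PK : Sylow p K :=
    { toSubgroup := P.subgroupOf K
      isPGroup' := (X.S.2.to_le hPS).comap_subtype
      is_maximal' := fun {W} hW hle => by
        have h1 : W.map K.subtype = P := hPmax _ (map_subtype_le W) (hW.map _) fun y hy =>
          ⟨⟨y, hPK hy⟩, hle hy, rfl⟩
        rw [← h1]
        exact (comap_map_eq_self_of_injective K.subtype_injective W).symm }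
  let T : Sylow p Q := PK.mapSurjective hf
  have hT : ∀ t ∈ (T : Subgroup Q), ∃ s : K, (s : G) ∈ P ∧ f s = t := fun t ⟨s, hs, e⟩ => ⟨s, hs, e⟩
  obtain ⟨v', hv⟩ := hιB.ge (mem_map_of_mem X.π (X.w_mem_Bsub K))
  set v := v'.toAdd
  have hv' : ι (Multiplicative.ofAdd v) = X.π X.w := hv
  have hfixK : ∀ k : K, ρ k *ᵥ v = v ↔ (k : G) ∈ X.Kw := by
    intro k
    rw [X.mem_Kw, ← X.π_eq_one, map_commutatorElement, commutatorElement_eq_one_iff_mul_comm, ← mul_inv_eq_iff_eq_mul]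
    constructor
    · intro h; rw [← hv', ← hρι, h]
    · intro h; exact Multiplicative.ofAdd.injective (hι (by rw [hρι, hv', h]))
  have hTv : ∀ t ∈ (T : Subgroup Q), ρQ t *ᵥ v = v := fun t ht => by
    obtain ⟨s, hs, rfl⟩ := hT t ht
    rw [hρf, hfixK]; exact X.S_le_Kw (hPS hs)
  have hspan : ∀ U : AddSubgroup (Fin n → ZMod p), v ∈ U → (∀ g : Q, ∀ x ∈ U, ρQ g *ᵥ x ∈ U) → U = ⊤ := by
    intro U hvU hU
    have hle : B.map X.π ≤ U.toSubgroup.map ι := by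
      rw [hB, X.Bsub_map, closure_le]
      rintro _ ⟨k, hk, rfl⟩
      refine ⟨Multiplicative.ofAdd (ρ ⟨k, hk⟩ *ᵥ v), hU (f ⟨k, hk⟩) v hvU, ?_⟩
      rw [hρι, hv', map_mul, map_mul, map_inv]
    refine eq_top_iff.mpr fun x _ => ?_
    obtain ⟨y, hy, e⟩ := hle (hιB.le ⟨Multiplicative.ofAdd x, rfl⟩)
    rw [show y = Multiplicative.ofAdd x from hι e] at hy
    exact hy
  have hTR : (T : Subgroup Q) ≤ R := fun t ht => by
    obtain ⟨s, hs, rfl⟩ := hT t ht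
    exact mem_map_of_mem f ⟨hPK hs, Ag.of_mem (X.S_le_H (hPS hs))⟩
  have hfix : ∀ g : Q, ρQ g *ᵥ v = v → g ∈ R := by
    intro g hg
    obtain ⟨k, rfl⟩ := hf g
    rw [hρf, hfixK] at hg
    refine mem_map_of_mem f ⟨k.2, X.ag_Kw hg hBS ?_⟩
    rw [img_subgroup, Cfsg.Lib.Transfer.map_conj_eq_self_iff.mpr (hKB k.2)]
    exact hBS
  -- quadratic elements of `A`
  have hquad : ∀ a (ha : a ∈ A), (ρ ⟨a, hPK (hAP ha)⟩ - 1) * (ρ ⟨a, hPK (hAP ha)⟩ - 1) = 0 := by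
    intro a ha
    refine Matrix.ext_of_mulVec_single fun i => ?_
    rw [zero_mulVec, ← mulVec_mulVec]
    set x : Fin n → ZMod p := Pi.single i 1
    simp only [sub_mulVec, one_mulVec]
    rw [sub_eq_zero]
    refine Multiplicative.ofAdd.injective (hι ?_)
    rw [hρι]
    simp only [ofAdd_sub, div_eq_mul_inv, map_mul, map_inv, hρι]
    obtain ⟨b, hb, hb'⟩ := hιB.le ⟨Multiplicative.ofAdd x, rfl⟩
    rw [← hb']
    have h1 := X.π_eq_one.mpr (hq a ha b hb)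
    rw [map_commutatorElement, map_commutatorElement, commutatorElement_eq_one_iff_mul_comm,
      ← mul_inv_eq_iff_eq_mul, commutatorElement_def] at h1
    exact h1
  obtain ⟨a₀, ha₀, ha₀C⟩ := SetLike.not_le_iff_exists.mp hAC
  have hqA : ∀ a (ha : a ∈ A), f ⟨a, hPK (hAP ha)⟩ = 1 ∨ Quad ρQ (f ⟨a, hPK (hAP ha)⟩) := fun a ha => by
    by_cases h : f ⟨a, hPK (hAP ha)⟩ = 1
    · exact Or.inl h
    · exact Or.inr ⟨h, hquad a ha⟩
  have hqa₀ : Quad ρQ (f ⟨a₀, hPK (hAP ha₀)⟩) :=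
    (hqA a₀ ha₀).resolve_left fun h => ha₀C ((hker _).mp h)
  have ha₀T : f ⟨a₀, hPK (hAP ha₀)⟩ ∈ (T : Subgroup Q) := ⟨_, hAP ha₀, rfl⟩
  set T₁ := qcl ρQ (T : Subgroup Q)
  -- the normalizer of `T₁`
  set L₁ := T₁.comap f
  set F := (P.subgroupOf K ⊓ L₁).map K.subtype with hFdef
  have hFP : F ≤ P := (map_mono inf_le_left).trans (by rw [subgroupOf_map_subtype]; exact inf_le_left)
  have hmemF : ∀ {k : K}, (k : G) ∈ F ↔ (k : G) ∈ P ∧ f k ∈ T₁ := by
    intro k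
    constructor
    · rintro ⟨k', hk', e⟩
      rw [show k = k' from Subtype.ext e.symm]
      exact hk'
    · exact fun h => ⟨k, h, rfl⟩
  have hCF : P ⊓ X.CV K B ≤ F := fun y hy =>
    (hmemF (k := ⟨y, hPK hy.1⟩)).mpr ⟨hy.1, by rw [(hker ⟨y, hPK hy.1⟩).mpr hy.2]; exact one_mem _⟩
  have hT₁T : T₁ ≤ (T : Subgroup Q) := qcl_le _
  have hPF : P ≤ normalizer (F : Set G) := fun s hs => mem_normalizer_of_conj_le fun y hy => by
    have hyP := hFP hy
    obtain ⟨-, hy1⟩ := (hmemF (k := ⟨y, hPK hyP⟩)).mp hy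
    refine (hmemF (k := ⟨s, hPK hs⟩ * ⟨y, hPK hyP⟩ * ⟨s, hPK hs⟩⁻¹)).mpr
      ⟨P.mul_mem (P.mul_mem hs hyP) (P.inv_mem hs), ?_⟩
    rw [map_mul, map_mul, map_inv]
    exact (mem_normalizer_iff.mp (normalizer_le_normalizer_qcl _
      (le_normalizer (show f ⟨s, hPK hs⟩ ∈ (T : Subgroup Q) from ⟨⟨s, hPK hs⟩, hs, rfl⟩))) _).mp hy1
  have hAF : A ≤ F := fun a ha => (hmemF (k := ⟨a, hPK (hAP ha)⟩)).mpr ⟨hAP ha, by
    rcases hqA a ha with h | h
    · rw [h]; exact one_mem _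
    · exact mem_qcl ⟨_, hAP ha, rfl⟩ h⟩
  have hKF : ¬ K ≤ normalizer (F : Set G) := by
    intro hle
    have hn : T₁.Normal := by
      refine ⟨fun t ht g => ?_⟩
      obtain ⟨k, rfl⟩ := hf g
      obtain ⟨s, hs, rfl⟩ := hT t (hT₁T ht)
      rw [← map_inv, ← map_mul, ← map_mul]
      exact (hmemF.mp ((mem_normalizer_iff.mp (hle k.2) _).mp (hmemF.mpr ⟨hs, ht⟩) :
        ((k * s * k⁻¹ : K) : G) ∈ F)).2
    let U : AddSubgroup (Fin n → ZMod p) :=
      { carrier := {x | ∀ m ∈ T₁, ρQ m *ᵥ x = x}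
        zero_mem' := fun m _ => mulVec_zero _
        add_mem' := fun {x y} hx hy m hm => by rw [mulVec_add, hx m hm, hy m hm]
        neg_mem' := fun {x} hx m hm => by rw [mulVec_neg, hx m hm] }
    have hU : U = ⊤ := hspan U (fun m hm => hTv m (hT₁T hm)) fun g x hx m hm => by
      have h1 := hx (g⁻¹ * m * g) (by simpa using hn.conj_mem m hm g⁻¹)
      have h2 := congrArg (ρQ g *ᵥ ·) h1
      simp only [mulVec_mulVec, ← map_mul] at h2
      rw [mulVec_mulVec, ← map_mul]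
      rwa [show g * (g⁻¹ * m * g) = m * g by group] at h2
    refine hqa₀.1 (hρQ (Matrix.ext_of_mulVec_single fun i => ?_))
    rw [map_one, one_mulVec]
    exact (show Pi.single i 1 ∈ U from hU ▸ AddSubgroup.mem_top _) _ (mem_qcl ha₀T hqa₀)
  have hN : normalizer ((qcl ρQ (T : Subgroup Q) : Subgroup Q) : Set Q) ≤ R := by
    intro g hg
    obtain ⟨k, rfl⟩ := hf g
    have hkL : k ∈ normalizer (L₁ : Set K) := mem_normalizer_iff.mpr fun y => by
      show f y ∈ T₁ ↔ f (k * y * k⁻¹) ∈ T₁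
      rw [map_mul, map_mul, map_inv]
      exact mem_normalizer_iff.mp hg _
    set Y := P.subgroupOf K ⊓ L₁
    have hYp : IsPGroup p Y := PK.2.to_le inf_le_left
    have hmax : ∀ W : Subgroup K, IsPGroup p W → W ≤ L₁ → Y ≤ W → W = Y := by
      intro W hW hWL hle
      obtain ⟨r, hr, hrW⟩ := exists_conj_into PK (L := (T : Subgroup Q).comap f) (fun s hs => ⟨s, hs, rfl⟩)
        hW (hWL.trans (comap_mono hT₁T))
      refine (eq_of_le_of_card_ge hle ?_).symm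
      rw [← Cfsg.Lib.Transfer.card_map_conj W r]
      refine card_le_of_le (le_inf hrW ?_)
      rintro _ ⟨y, hy, rfl⟩
      show f (r * y * r⁻¹) ∈ T₁
      rw [map_mul, map_mul, map_inv]
      exact (mem_normalizer_iff.mp (normalizer_le_normalizer_qcl _
        (le_normalizer (show f r ∈ (T : Subgroup Q) from hr))) _).mp (hWL hy)
    obtain ⟨S₂, hS₂⟩ := (hYp.comap_subtype (K := L₁) : IsPGroup p (Y.subgroupOf L₁)).exists_le_sylow
    have hS₂e : (S₂ : Subgroup L₁).map L₁.subtype = Y := by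
      refine hmax _ (S₂.2.map _) (map_subtype_le _) ?_
      intro y hy
      exact ⟨⟨y, hy.2⟩, hS₂ hy, rfl⟩
    set Yk := Y.map (MulAut.conj k).toMonoidHom
    have hYkL : Yk ≤ L₁ := by
      rintro _ ⟨y, hy, rfl⟩
      exact (mem_normalizer_iff.mp hkL y).mp hy.2
    obtain ⟨S₃, hS₃⟩ := ((hYp.map _).comap_subtype (K := L₁) : IsPGroup p (Yk.subgroupOf L₁)).exists_le_sylow
    obtain ⟨l, hl⟩ := MulAction.exists_smul_eq L₁ S₃ S₂
    have hlk : (((l : K) * k : K) : G) ∈ normalizer (F : Set G) := mem_normalizer_of_conj_le fun y hy => by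
      obtain ⟨z, hz, rfl⟩ := hy
      refine ⟨(l : K) * k * z * ((l : K) * k)⁻¹, ?_, by simp [mul_assoc]⟩
      show _ ∈ Y
      rw [← hS₂e]
      have h : l * ⟨k * z * k⁻¹, hYkL ⟨z, hz, rfl⟩⟩ * l⁻¹ ∈ (S₂ : Subgroup L₁) := by
        rw [← hl, Cfsg.Lib.Transfer.sylow_smul_coe]
        exact ⟨_, hS₃ (⟨z, hz, rfl⟩ : k * z * k⁻¹ ∈ Yk), rfl⟩
      exact ⟨_, h, by simp [mul_assoc]⟩
    have h1 : f ((l : K) * k) ∈ R :=
      mem_map_of_mem f ⟨((l : K) * k).2, hF F hCF hFP hPF hAF hKF _ ((l : K) * k).2 hlk⟩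
    rw [map_mul] at h1
    have h2 := R.mul_mem (R.inv_mem (hTR (hT₁T l.2))) h1
    rwa [inv_mul_cancel_left] at h2
  -- the invariant set
  let E : AddSubgroup (Fin n → ZMod p) :=
    Subgroup.toAddSubgroup' (((zj X.S ⊓ B).map X.π).comap ι)
  have hmemE : ∀ x, x ∈ E ↔ ι (Multiplicative.ofAdd x) ∈ (zj X.S ⊓ B).map X.π := fun x => Iff.rfl
  have hE : ∀ g ∈ R, ∀ x ∈ E, ρQ g *ᵥ x ∈ E := by
    intro g hg x hx
    obtain ⟨k, rfl⟩ := hf g
    obtain ⟨m, hm, hmk⟩ := hR hg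
    obtain ⟨b, hb, hb'⟩ := (hmemE x).mp hx
    refine (hmemE _).mpr ⟨m * b * m⁻¹, ⟨(mem_normalizer_iff.mp hm b).mp hb.1, ?_⟩, ?_⟩
    · rw [hmk b hb.2]; exact (mem_normalizer_iff.mp (hKB k.2) b).mp hb.2
    · rw [hmk b hb.2, hρf, hρι, ← hb', map_mul, map_mul, map_inv]
  obtain ⟨u, d, a, hu, hd, ha, ⟨x, hxE, hx0, hdx⟩, U, φ, hφ, hact⟩ := torus_data X.hp hρQ T R v hTv hspan hTR hfix
    hN ⟨_, ha₀T, hqa₀⟩ E hE ((hmemE v).mpr ⟨X.w, ⟨X.hw, X.w_mem_Bsub K⟩, hv'.symm⟩)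
  obtain ⟨kd, rfl⟩ := hf d
  obtain ⟨ka, rfl⟩ := hf a
  obtain ⟨md, hmd, hmdk⟩ := hR hd
  obtain ⟨ma, hma, hmak⟩ := hR ha
  refine X.hno ⟨?_, ?_⟩
  · -- the section
    have hBH : B ≤ X.H := hBS.trans X.S_le_H
    let UG : Subgroup G := B ⊓ ((AddSubgroup.toSubgroup U).map ι).comap X.π
    let U₂ : Subgroup X.H := UG.subgroupOf X.H
    have hpre : ∀ b : U₂, ∃ y : U, ι (Multiplicative.ofAdd (y : Fin n → ZMod p)) = X.π (b : X.H) := by
      intro b
      obtain ⟨y, hy, e⟩ := b.2.2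
      exact ⟨⟨y.toAdd, hy⟩, e⟩
    choose yf hyf using hpre
    let ψ : U₂ →* Multiplicative (Fin 2 → ZMod p) :=
      MonoidHom.mk' (fun b => Multiplicative.ofAdd (φ (yf b))) fun b c => by
        have : yf (b * c) = yf b + yf c := Subtype.ext (Multiplicative.ofAdd.injective (hι (by
          rw [AddSubgroup.coe_add, ofAdd_add, map_mul, hyf, hyf, hyf, Subgroup.coe_mul, Subgroup.coe_mul, map_mul])))
        rw [this, map_add, ofAdd_add]
    have hψ : Function.Surjective ψ := by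
      intro z
      obtain ⟨y, hy⟩ := hφ z.toAdd
      obtain ⟨b, hb, hb'⟩ := hιB.le ⟨Multiplicative.ofAdd (y : Fin n → ZMod p), rfl⟩
      have hbU : b ∈ UG := ⟨hb, ⟨_, y.2, hb'.symm⟩⟩
      refine ⟨⟨⟨b, hBH hb⟩, hbU⟩, ?_⟩
      show Multiplicative.ofAdd (φ (yf _)) = z
      rw [show yf ⟨⟨b, hBH hb⟩, hbU⟩ = y from Subtype.ext (Multiplicative.ofAdd.injective (hι (by rw [hyf]; exact hb'))), hy]
      rfl
    have key : ∀ (m : X.H) (k : K) (M : Matrix (Fin 2) (Fin 2) (ZMod p)),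
        (∀ b ∈ B, (m : G) * b * (m : G)⁻¹ = k * b * (k : G)⁻¹) →
        (∀ y : U, ∃ h : ρ k *ᵥ (y : Fin n → ZMod p) ∈ U, φ ⟨_, h⟩ = M *ᵥ φ y) →
        ∀ b : U₂, ∃ h : m * b * m⁻¹ ∈ U₂, (ψ ⟨_, h⟩).toAdd = M *ᵥ (ψ b).toAdd := by
      intro m k M hm hM b
      obtain ⟨h1, e1⟩ := hM (yf b)
      have hbB : ((b : X.H) : G) ∈ B := b.2.1
      have hπ : ι (Multiplicative.ofAdd (ρ k *ᵥ (yf b : Fin n → ZMod p))) = X.π ((m * b * m⁻¹ : X.H) : G) := by
        rw [hρι, hyf, Subgroup.coe_mul, Subgroup.coe_mul, Subgroup.coe_inv, hm _ hbB, map_mul, map_mul, map_inv]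
      have hmem : m * b * m⁻¹ ∈ U₂ := by
        refine ⟨?_, ⟨_, h1, hπ⟩⟩
        show (m : G) * ((b : X.H) : G) * (m : G)⁻¹ ∈ B
        rw [hm _ hbB]
        exact (mem_normalizer_iff.mp (hKB k.2) _).mp hbB
      refine ⟨hmem, ?_⟩
      show φ (yf _) = M *ᵥ φ (yf b)
      rw [← e1]
      exact congrArg φ (Subtype.ext (Multiplicative.ofAdd.injective (hι ((hyf _).trans hπ.symm))))
    exact involves_f X.hp U₂ ((X.S.2.to_le (inf_le_left.trans hBS)).comap_subtype) ψ hψ u hu ⟨md, hmd⟩ ⟨ma, hma⟩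
      (key ⟨ma, hma⟩ ka _ hmak fun y => by
        obtain ⟨h1, h2, e1, e2⟩ := hact y
        exact ⟨h1, e1⟩)
      (key ⟨md, hmd⟩ kd _ hmdk fun y => by
        obtain ⟨h1, h2, e1, e2⟩ := hact y
        exact ⟨h2, e2⟩)
  · -- the subgroup of order `p`
    set U₀ := zj X.S ⊓ B
    have hUcomm : ∀ b ∈ U₀, ∀ c ∈ U₀, b * c = c * b := fun b hb c hc =>
      (mem_centralizer_iff.mp hc.1.2 b hb.1.1)
    set j := (u : ZMod p).val
    have hδmem : ∀ b : U₀, md * b * md⁻¹ * ((b : G) ^ j)⁻¹ ∈ U₀ := fun b =>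
      U₀.mul_mem ⟨(mem_normalizer_iff.mp hmd _).mp b.2.1, by
        rw [hmdk _ b.2.2]; exact (mem_normalizer_iff.mp (hKB kd.2) _).mp b.2.2⟩ (U₀.inv_mem (U₀.pow_mem b.2 j))
    let δ : U₀ → U₀ := fun b => ⟨_, hδmem b⟩
    obtain ⟨b₀, hb₀, hb₀'⟩ := (hmemE x).mp hxE
    have hb₀Z : b₀ ∉ X.Z := fun h => hx0 (Multiplicative.ofAdd.injective (hι (by
      rw [← hb₀', ofAdd_zero, map_one]; exact X.π_eq_one.mpr h)))
    have hδb₀ : (δ ⟨b₀, hb₀⟩ : G) ∈ X.Z := by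
      rw [← X.π_eq_one]
      show X.π (md * b₀ * md⁻¹ * (b₀ ^ j)⁻¹) = 1
      rw [hmdk _ hb₀.2, map_mul _ _ (b₀ ^ j)⁻¹, map_mul, map_mul, map_inv, map_inv, map_pow, hb₀', ← hρι, ← hρf,
        hdx, mul_inv_eq_one, ← map_pow, ← ofAdd_nsmul, ← Nat.cast_smul_eq_nsmul (ZMod p), ZMod.natCast_zmod_val]
    have hni : ¬ Function.Injective δ := by
      intro hinj
      -- `δ` permutes `Z ⊓ U₀`
      let Z₀ := {b : U₀ // (b : G) ∈ X.Z}
      let δ₀ : Z₀ → Z₀ := fun b => ⟨δ b.1, X.Z.mul_mem ((inferInstance : X.Z.Normal).conj_mem _ b.2 md)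
        (X.Z.inv_mem (X.Z.pow_mem b.2 j))⟩
      have hi : Function.Injective δ₀ := fun b c h => Subtype.ext (hinj (congrArg Subtype.val h))
      obtain ⟨z, hz⟩ := Finite.surjective_of_injective hi ⟨δ ⟨b₀, hb₀⟩, hδb₀⟩
      have h1 := z.2
      rw [hinj (congrArg Subtype.val hz)] at h1
      exact hb₀Z h1
    obtain ⟨b, c, hbc, hne⟩ := Function.not_injective_iff.mp hni
    set e := (b : G) * (c : G)⁻¹
    have heU : e ∈ U₀ := U₀.mul_mem b.2 (U₀.inv_mem c.2)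
    have he1 : e ≠ 1 := fun h => hne (Subtype.ext (mul_inv_eq_one.mp h))
    have hconje : md * e * md⁻¹ = e ^ j := by
      have h1 := congrArg Subtype.val hbc
      change md * b * md⁻¹ * ((b : G) ^ j)⁻¹ = md * c * md⁻¹ * ((c : G) ^ j)⁻¹ at h1
      rw [mul_inv_eq_iff_eq_mul] at h1
      have hcm : Commute (b : G) (c : G)⁻¹ := (show Commute (b : G) c from hUcomm _ b.2 _ c.2).inv_right
      rw [hcm.mul_pow, inv_pow, show md * e * md⁻¹ = md * b * md⁻¹ * (md * c * md⁻¹)⁻¹ by simp only [e]; group, h1]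
      have h2 : Commute (((c : G) ^ j)⁻¹ * (b : G) ^ j) (md * (c : G) * md⁻¹)⁻¹ := by
        refine (show Commute _ _ from hUcomm _ (U₀.mul_mem (U₀.inv_mem (U₀.pow_mem c.2 j)) (U₀.pow_mem b.2 j)) _
          (U₀.inv_mem ⟨(mem_normalizer_iff.mp hmd _).mp c.2.1, ?_⟩))
        rw [hmdk _ c.2.2]; exact (mem_normalizer_iff.mp (hKB kd.2) _).mp c.2.2
      calc md * (c : G) * md⁻¹ * ((c : G) ^ j)⁻¹ * (b : G) ^ j * (md * (c : G) * md⁻¹)⁻¹
          = md * (c : G) * md⁻¹ * (((c : G) ^ j)⁻¹ * (b : G) ^ j * (md * (c : G) * md⁻¹)⁻¹) := by group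
        _ = md * (c : G) * md⁻¹ * ((md * (c : G) * md⁻¹)⁻¹ * (((c : G) ^ j)⁻¹ * (b : G) ^ j)) := by rw [h2.eq]
        _ = ((c : G) ^ j)⁻¹ * (b : G) ^ j := by group
        _ = (b : G) ^ j * ((c : G) ^ j)⁻¹ :=
          hUcomm _ (U₀.inv_mem (U₀.pow_mem c.2 j)) _ (U₀.pow_mem b.2 j)
    obtain ⟨i, hi⟩ := IsPGroup.iff_orderOf.mp X.S.2 ⟨e, hBS heU.2⟩
    rw [Subgroup.orderOf_mk] at hi
    have hi0 : i ≠ 0 := fun h => he1 (orderOf_eq_one_iff.mp (by rw [hi, h, pow_zero]))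
    set c₀ := e ^ p ^ (i - 1) with hc₀
    have hc₀o : orderOf c₀ = p := by
      rw [hc₀, orderOf_pow' _ (pow_ne_zero _ (Fact.out : p.Prime).ne_zero), hi,
        Nat.gcd_eq_right (pow_dvd_pow p (Nat.sub_le i 1)), Nat.pow_div (Nat.sub_le i 1) (Fact.out : p.Prime).pos,
        show i - (i - 1) = 1 by omega, pow_one]
    refine ⟨zpowers c₀, md, u, zpowers_le.mpr ((zj X.S).pow_mem heU.1 _), by rw [Nat.card_zpowers, hc₀o], hmd, hu, ?_⟩
    rintro c ⟨m, rfl⟩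
    show md * c₀ ^ m * md⁻¹ = (c₀ ^ m) ^ j
    rw [← conj_zpow, hc₀, ← conj_pow, hconje, ← pow_mul, mul_comm, pow_mul, ← zpow_natCast (_ ^ m), ← _root_.zpow_mul,
      mul_comm, _root_.zpow_mul, zpow_natCast]

end Cfsg.Lib.ZJFail
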