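import Cfsg.Agent.Components.ZJFail.Chain
import Cfsg.Agent.Components.ZJ.Reduce
import Cfsg.Agent.Components.Qd.Free
import Cfsg.Agent.PGroups.Basic

/-!
The failure of `Z(J(S))` to control strong fusion.
-/

set_option autoImplicit false
set_option linter.unusedSectionVars false
set_option linter.style.haveILetI false

namespace Cfsg.Lib.ZJFail

open Subgroup
open Cfsg.Lib.CtrlD (Ag)
open Cfsg.Lib.Control (img)
open scoped commutatorElement

universe u

variable {p : ℕ} [Fact p.Prime]

theorem concl_or_agrees (hp : p ≠ 2) (n : ℕ) :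
    ∀ (G : Type u) [Group G] [Finite G], Nat.card G = n → ∀ S : Sylow p G, Concl S ∨ Agrees S := by
  induction n using Nat.strong_induction_on with
  | _ n ih =>
  intro G _ _ hG S
  classical
  by_cases hno : Concl S
  · exact Or.inl hno
  refine Or.inr ?_
  by_cases hnn : (zj S).Normal
  · intro A g _ _
    exact Ag.of_mem (by rw [normalizer_eq_top_iff.mpr hnn]; exact mem_top g)
  -- the kernel
  set C := centralizer {x : G | (orderOf x).Coprime p}
  set Z := zj S ⊓ C
  haveI hCn : C.Normal := ⟨fun c hc g => mem_centralizer_iff.mpr fun x hx => by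
    have h1 := mem_centralizer_iff.mp hc (g⁻¹ * x * g) (by
      show (orderOf (g⁻¹ * x * g)).Coprime p
      have : orderOf (MulAut.conj g⁻¹ x) = orderOf x := MulEquiv.orderOf_eq _ x
      rw [MulAut.conj_apply, inv_inv] at this
      rw [this]; exact hx)
    calc x * (g * c * g⁻¹) = g * (g⁻¹ * x * g * c) * g⁻¹ := by group
      _ = g * (c * (g⁻¹ * x * g)) * g⁻¹ := by rw [h1]
      _ = g * c * g⁻¹ * x := by group⟩
  have hcop : ∀ x : G, (orderOf x).Coprime p → x ∈ centralizer (Z : Set G) := fun x hx =>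
    mem_centralizer_iff.mpr fun z hz => (mem_centralizer_iff.mp hz.2 x hx).symm
  have hZtop : normalizer (Z : Set G) = ⊤ := eq_top_of_sylow_of_coprime S _
    (le_normalizer_inf (le_normalizer.trans (normalizer_le_normalizer_zj _))
      (fun g _ => le_normalizer_of_normal (mem_top g)))
    fun x hx => centralizer_le_normalizer _ (hcop x hx)
  haveI hZn : Z.Normal := normalizer_eq_top_iff.mp hZtop
  let π := QuotientGroup.mk' Z
  -- the element `w`
  have hS' : IsPGroup p ((S : Subgroup G).map π) := S.2.map π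
  let N : Subgroup ↥((S : Subgroup G).map π) := ((zj S).map π).subgroupOf _
  haveI : N.Normal := (normal_subgroupOf_iff_le_normalizer (map_mono (zj_le S))).mpr
    ((map_mono (le_normalizer.trans (normalizer_le_normalizer_zj _))).trans (le_normalizer_map π))
  have hN : N ≠ ⊥ := by
    intro e
    refine hnn ?_
    have h1 : zj S ≤ Z := by
      intro y hy
      have h2 : (⟨π y, mem_map_of_mem π (zj_le S hy)⟩ : ↥((S : Subgroup G).map π)) ∈ N := mem_map_of_mem π hy
      rw [e, mem_bot] at h2
      exact (QuotientGroup.eq_one_iff y).mp (congrArg Subtype.val h2)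
    rw [le_antisymm h1 inf_le_left]
    exact hZn
  obtain ⟨z, hzN, hzc, hzo⟩ := Cfsg.Lib.PGroups.exists_mem_center_of_normal_ne_bot hS' hN
  obtain ⟨w, hw, hwz⟩ : ∃ w ∈ zj S, π w = z := hzN
  have hz1 : z ≠ 1 := fun e => (Fact.out : p.Prime).ne_one (by rw [← hzo, e, orderOf_one])
  let X : Setup p G :=
    { S := S, hp := hp, Z := Z, Zn := hZn, hZ := inf_le_left, hcop := hcop, w := w, hw := hw
      hwp := (QuotientGroup.eq_one_iff _).mp (by
        show π (w ^ p) = 1
        rw [map_pow, hwz]
        exact congrArg Subtype.val (orderOf_dvd_iff_pow_eq_one.mp hzo.dvd))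
      hwS := fun s hs => (QuotientGroup.eq_one_iff _).mp (by
        show π ⁅s, w⁆ = 1
        rw [map_commutatorElement, commutatorElement_eq_one_iff_mul_comm, hwz]
        exact congrArg Subtype.val (mem_center_iff.mp hzc ⟨π s, mem_map_of_mem π hs⟩))
      hKw := by
        by_contra hall
        push Not at hall
        refine hz1 (Subtype.ext ?_)
        rw [← hwz]
        refine (QuotientGroup.eq_one_iff w).mpr ⟨hw, mem_centralizer_iff.mpr fun x hx => ?_⟩
        have h1 := hall x
        exact mul_inv_eq_iff_eq_mul.mp (commute_of_coprime hx ((mem_centralizer_iff.mp (hcop x hx) _ h1).symm)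
          (let ⟨k, hk⟩ := S.2 ⟨_, (inf_le_left.trans (zj_le S) : Z ≤ _) h1⟩; ⟨k, congrArg Subtype.val hk⟩))
      hno := hno, hnn := hnn
      ind := ?_ }
  · exact X.agrees
  intro K hSK hK k hk A hA hkA
  let SK : Sylow p K := S.subtype hSK
  have hmapS : (SK : Subgroup K).map K.subtype = (S : Subgroup G) := by
    rw [Sylow.coe_subtype, subgroupOf_map_subtype, inf_eq_left.mpr hSK]
  have hzj : (zj SK).map K.subtype = zj S := by
    rw [zj, Cfsg.Lib.ZJ.centerThompsonAOf_map_injOn K.subtype_injective.injOn, hmapS]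
  have hnorm : ∀ n ∈ normalizer ((zj SK : Subgroup K) : Set K), (n : G) ∈ normalizer ((zj S : Subgroup G) : Set G) :=
    fun n hn => hzj ▸ le_normalizer_map K.subtype ⟨n, hn, rfl⟩
  rcases ih (Nat.card K) (hG ▸ lt_of_le_of_ne (card_le_card_group K) fun h => hK (K.eq_top_of_card_eq h))
    K rfl SK with hc | hag
  · obtain ⟨hinv, C₀, x, u, hC₀, hcard, hx, hu, hxc⟩ := hc
    refine (hno ⟨?_, C₀.map K.subtype, x, u, hzj ▸ map_mono hC₀,
      by rw [card_map_of_injective K.subtype_injective, hcard], hnorm x hx, hu, ?_⟩).elim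
    · let f : ↥(normalizer ((zj SK : Subgroup K) : Set K)) →* ↥(normalizer ((zj S : Subgroup G) : Set G)) :=
        (K.subtype.comp (Subgroup.subtype _)).codRestrict _ fun n => hnorm n n.2
      exact Cfsg.Lib.QdFree.involves_of_injective (f := f)
        (fun a b h => Subtype.ext (Subtype.ext (congrArg Subtype.val h :))) hinv
    · rintro _ ⟨c, hc, rfl⟩
      have := congrArg Subtype.val (hxc c hc)
      simpa using this
  · obtain ⟨m, hm, hmk⟩ := hag (Subtype.val ⁻¹' A) ⟨k, hk⟩ (fun a ha => hA ha) (by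
      rintro _ ⟨a, ha, rfl⟩
      exact hkA ⟨a, ha, rfl⟩)
    exact ⟨m, hnorm m hm, fun a ha => congrArg Subtype.val (hmk ⟨a, hSK (hA ha)⟩ ha)⟩

end Cfsg.Lib.ZJFail
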